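import Cfsg.Agent.Ord6.Two

/-! The case `C(t) / N ≅ S₃`: the normal eight-group is self-centralising in `O₂(C(t))`. -/

set_option autoImplicit false

namespace Cfsg.Lib.SC6

open Subgroup Cfsg.Lib.Trans
open Cfsg.Lib.Odd3 (conj_mem_of_norm conj_mem_of_norm' mem_norm_of_conj)
open Cfsg.Lib.L3 (sq_cases cube_cases SZ)

variable {G : Type*} [Group G] [Finite G]

/-- `g` permutes the involutions `t, d, t * d` cyclically. -/
structure Cyc (g t d : G) : Prop where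
  t2 : t * t = 1
  d2 : d * d = 1
  td : d * t = t * d
  gt : g * t * g⁻¹ = d
  gd : g * d * g⁻¹ = t * d

namespace Cyc
variable {g t d : G} (h : Cyc g t d)
include h

omit [Finite G] in
theorem gtd : g * (t * d) * g⁻¹ = t := by
  calc _ = g * t * g⁻¹ * (g * d * g⁻¹) := by group
    _ = t := by rw [h.gt, h.gd, ← mul_assoc, h.td, mul_assoc, h.d2, mul_one]

omit [Finite G] in
theorem cube : g ^ 3 ∈ C1 t ⊓ C1 d :=
  ⟨mem_C1.2 (mul_inv_eq_iff_eq_mul.1 (by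
    calc _ = g * (g * (g * t * g⁻¹) * g⁻¹) * g⁻¹ := by rw [pow_three']; group
      _ = t := by rw [h.gt, h.gd, h.gtd])), mem_C1.2 (mul_inv_eq_iff_eq_mul.1 (by
    calc _ = g * (g * (g * d * g⁻¹) * g⁻¹) * g⁻¹ := by rw [pow_three']; group
      _ = d := by rw [h.gd, h.gtd, h.gt]))⟩

omit [Finite G] in
theorem mul {c : G} (hc : c ∈ C1 t ⊓ C1 d) : Cyc (g * c) t d :=
  ⟨h.t2, h.d2, h.td, by rw [← h.gt, mul_assoc g, mem_C1.1 hc.1]; group,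
    by rw [← h.gd, mul_assoc g, mem_C1.1 hc.2]; group⟩

theorem nV : g ∈ Nm (VV t d) := mem_norm_of_conj fun _ hu =>
  mem_cj_inv.1 (V_le (H := cj g⁻¹ (VV t d)) (mem_cj_inv.2 (h.gt ▸ dV t _))
    (mem_cj_inv.2 (h.gd ▸ mul_mem (tV t d) (dV t d))) hu)

theorem three (dt : d ∉ zpowers t) : 3 ∣ orderOf g :=
  three_dvd (H := C1 t) h.cube.1 fun c => dt (by
    rw [← h.gt, conj_eq_of_comm (mem_C1.1 c)]; exact mem_zpowers t)

theorem exists_pow : ∃ j n : ℕ, Cyc (g ^ j) t d ∧ (g ^ j) ^ 3 ^ n = 1 := by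
  obtain ⟨n, m, h1, h2⟩ := Nat.exists_eq_pow_mul_and_not_dvd (orderOf_pos g).ne' 3 (by norm_num)
  have key : ∀ k, k % 3 = 1 → Cyc (g ^ k) t d := fun k hk => by
    rw [← Nat.mod_add_div k 3, hk, pow_add, pow_one, pow_mul]
    exact h.mul (pow_mem h.cube _)
  refine ⟨m * m, n, key _ ?_, ?_⟩
  · rcases (by omega : m % 3 = 1 ∨ m % 3 = 2) with e | e <;> simp [Nat.mul_mod, e]
  · rw [← pow_mul, mul_assoc, mul_comm m (3 ^ n), ← h2, mul_comm, pow_mul, pow_orderOf_eq_one,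
      one_pow]

end Cyc

/-- An involution of `Q` that is central in `T` modulo `t`. -/
structure C3 (t y s d : G) (Q T : Subgroup G) : Prop where
  c2 : C2 t y s Q T
  cf : Cf t y d Q
  dT : ∀ a ∈ T, a * d * a⁻¹ * d⁻¹ ∈ zpowers t

namespace C3
variable {t y s d : G} {Q T : Subgroup G} (h : C3 t y s d Q T)
include h

theorem eQ {a : G} (ha : a ∈ T)
    (e : a * (y * d * y⁻¹) * a⁻¹ * (y * d * y⁻¹)⁻¹ ∈ zpowers t) : a ∈ Q := by
  by_contra c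
  exact h.cf.dt (h.c2.dd (mem_zpowers t) h.cf.fp.le (fun a ha => nm_zp (h.c2.cT ha)) h.cf.fp.yD
    ha c h.cf.dR (h.dT a ha) e)

theorem mem_II {a : G} (ha : a ∈ T ⊓ C1 d) (e : a * (y * d * y⁻¹) = y * d * y⁻¹ * a) :
    a ∈ II Q y d := ⟨⟨h.eQ ha.1 (comm_mem_of_eq e), ha.2⟩, mem_C1.2 e⟩

omit [Finite G] in
theorem II_le : II Q y d ≤ T ⊓ C1 d := fun _ ha => ⟨h.c2.i2.le ha.1.1, ha.1.2⟩

theorem nV : T ≤ Nm (VV t d) := fun a ha => mem_norm_of_conj fun _ hu =>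
  mem_cj_inv.1 (V_le (H := cj a⁻¹ (VV t d))
    (mem_cj_inv.2 (by rw [conj_eq_of_comm (h.c2.cT ha)]; exact tV t d))
    (mem_cj_inv.2 ((mul_mem_cancel_right (inv_mem (dV t d))).1 (zpV t d (h.dT a ha)))) hu)

theorem nU : C1 t ≤ Nm (UU t y d) := by
  refine h.c2.gen _ h.cf.yU (mem_norm_of_conj fun _ hu => ?_) h.cf.nU fun c _ e =>
    mem_norm_of_conj fun u hu => (mul_mem_cancel_right (inv_mem hu)).1 (zpU t y d (e u (h.cf.UR hu)))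
  have := fun u hu => VU t y d (conj_mem_of_norm (a := u) (h.nV h.c2.sT) hu)
  refine mem_cj_inv.1 (U_le (H := cj s⁻¹ (UU t y d)) (mem_cj_inv.2 (this _ (tV t d)))
    (mem_cj_inv.2 (this _ (dV t d))) (mem_cj_inv.2 ?_) hu)
  have := conj_mem_of_norm' h.cf.yU (this _ (dV t d))
  convert this using 1
  calc _ = s * y * s⁻¹ * (s * d * s⁻¹) * (s * y * s⁻¹)⁻¹ := by group
    _ = _ := by rw [h.c2.sy, inv_inv]

theorem nI : T ≤ Nm (II Q y d) := fun _ ha => mem_norm_of_conj fun _ hb =>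
  h.cf.conj_mem_II (h.c2.i2.nm ha) (h.nU (h.c2.syl.le ha)) hb

theorem i2T : I2 (T ⊓ C1 d) T := i2_cent h.cf.t2 (fun _ => h.c2.cT) h.dT

theorem eI : y * d * y⁻¹ ∈ T ⊓ C1 d := h.II_le (h.cf.UI (eU t y d))

theorem omI : om (T ⊓ C1 d) ≤ VV t d := fun z hz =>
  h.cf.l3 ⟨⟨h.eQ hz.1.1 (comm_mem_of_eq (hz.2.2 _ h.eI).symm), hz.1.2⟩, hz.2.1,
    fun a ha => hz.2.2 a ⟨h.c2.i2.le ha.1, ha.2⟩⟩

theorem omT : om T ≤ zpowers t := fun z hz =>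
  h.cf.zc ⟨h.eQ hz.1 (comm_mem_of_eq (hz.2.2 _ h.eI.1).symm), hz.2.1,
    fun a ha => hz.2.2 a (h.c2.i2.le ha)⟩

theorem eV {g : G} (h1 : g ∈ Nm (UU t y d)) (h2 : g ∈ Nm (VV t d)) :
    g * (y * d * y⁻¹) * g⁻¹ * (y * d * y⁻¹)⁻¹ ∈ VV t d :=
  h.cf.i2U.mul_inv (conj_mem_of_norm h1 (eU t y d)) (eU t y d)
    (fun c => h.cf.eV (by simpa [mul_assoc] using conj_mem_of_norm' h2 c)) h.cf.eV

theorem cyc {a b : G} (ha : a ∈ T) (a1 : a ∉ C1 d) (b1 : b * d = d * b)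
    (b2 : b * t * b⁻¹ = t * d) : Cyc (a * b) t d := by
  have a2 := (h.cf.toLoc.conj_cases (h.dT a ha)).resolve_left fun c => a1 (mem_C1.2 c)
  refine ⟨h.cf.t2, h.cf.d2, h.cf.td, ?_, ?_⟩
  · calc _ = a * (b * t * b⁻¹) * a⁻¹ := by group
      _ = a * t * a⁻¹ * (a * d * a⁻¹) := by rw [b2]; group
      _ = d := by rw [a2, conj_eq_of_comm (h.c2.cT ha), ← mul_assoc, h.cf.t2, one_mul]
  · rw [← a2, mul_assoc a, b1]; group

theorem exists_w : ∃ w ∈ Nm (T ⊓ C1 d), w ^ 3 = 1 ∧ Cyc w t d := by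
  obtain ⟨g, g1, g2, g3⟩ := h.c2.h6.swap h.c2.syl h.omT (h.c2.i2.le h.cf.dR) h.cf.d2 h.cf.dt
    h.i2T h.omI
  obtain ⟨r, r1, r2⟩ := h.cf.exR
  obtain ⟨j, n, c, e⟩ := (h.cyc (h.c2.i2.le r1) r2 g2 g3).exists_pow
  refine ⟨_, pow_mem (mul_mem (h.i2T.nm (h.c2.i2.le r1)) g1) j, ?_, c⟩
  by_contra f
  exact h.cf.dt (h.c2.h6.two (n := n) h.c2.pg f (by rw [← pow_mul, mul_comm, pow_mul, e, one_pow])
    h.c2.tQ h.cf.dR (mem_C1.1 c.cube.1) (mem_C1.1 c.cube.2) h.cf.t1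
    (fun c => h.cf.dt (c ▸ one_mem _)) ▸ mem_zpowers t)

theorem case_a {w : G} (w1 : w ∈ Nm (T ⊓ C1 d)) (c : Cyc w t d)
    (e : w * (y * d * y⁻¹) * w⁻¹ ∈ UU t y d) : II Q y d ≤ UU t y d := by
  have := Fact.mk Nat.prime_two
  have wU : w ∈ Nm (UU t y d) := mem_norm_of_conj fun _ hu =>
    mem_cj_inv.1 (U_le (H := cj w⁻¹ (UU t y d))
      (mem_cj_inv.2 (VU t y d (conj_mem_of_norm c.nV (tV t d))))
      (mem_cj_inv.2 (VU t y d (conj_mem_of_norm c.nV (dV t d)))) (mem_cj_inv.2 e) hu)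
  have TU := h.c2.syl.le.trans h.nU
  by_contra f
  obtain ⟨m, m1, m2, -, -, m3⟩ := Solv.PG.exists_step_elt (p := 2) h.c2.syl.isPGroup
    (h.c2.pg.to_le Cf.IR) TU h.nI (lt_of_le_not_ge h.cf.UI f)
  have m4 : ∀ g ∈ T, w * g * w⁻¹ * (w * m * w⁻¹) * (w * g * w⁻¹)⁻¹ * (w * m * w⁻¹)⁻¹ ∈ UU t y d :=
    fun g hg => by
      have := conj_mem_of_norm wU (comm_symm (m3 g (mem_sup_left hg)))
      convert this using 1; group
  have m5 : w * m * w⁻¹ ∈ II Q y d := h.mem_II (conj_mem_of_norm w1 (h.II_le m1)) (by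
    simpa [mul_assoc] using conj_comm (g := w)
      ((h.cf.U_om (conj_mem_of_norm' wU (eU t y d))).2.2 m m1))
  have m6 := (h.cf.fp.mono (zpU t y d) h.cf.UR h.cf.nU h.cf.yU).idx (Cf.IR m5) h.cf.i2R
    fun b hb => by
      simpa [mul_assoc] using m4 _ (conj_mem_of_norm' w1 ⟨h.c2.i2.le hb.1, hb.2⟩).1
  obtain ⟨r, r1, r2⟩ := h.cf.exR
  have rT := h.c2.i2.le r1
  have r3 := (h.cf.toLoc.conj_cases (h.dT r rT)).resolve_left fun c => r2 (mem_C1.2 c)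
  have n1 : w * r * w⁻¹ ∈ Nm (UU t y d) := mul_mem (mul_mem wU (TU rT)) (inv_mem wU)
  have n2 : w * r * w⁻¹ ∈ Nm (VV t d) := mul_mem (mul_mem c.nV (h.nV rT)) (inv_mem c.nV)
  have c1 := h.cyc (b := w * r * w⁻¹) rT r2 (by rw [← c.gt]; exact conj_comm (h.c2.cT rT)) (by
    calc _ = w * r * w⁻¹ * (w * (t * d) * w⁻¹) * (w * r * w⁻¹)⁻¹ := by rw [c.gtd]
      _ = w * (r * t * r⁻¹ * (r * d * r⁻¹)) * w⁻¹ := by group
      _ = _ := by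
        rw [r3, conj_eq_of_comm (h.c2.cT rT), ← mul_assoc t, h.cf.t2, one_mul, c.gd])
  have := h.c2.h6.kc h.c2.pg h.cf.UR (VU t y d) (c1.three h.cf.dt) (Cf.IR m5) (eU t y d) h.cf.eV
    (mul_mem ⟨TU rT, m6 r r1⟩ ⟨n1, m4 r rT⟩)
    ⟨c1.nV, h.eV (mul_mem (TU rT) n1) c1.nV⟩
  exact m2 (by simpa [mul_assoc] using conj_mem_of_norm' wU this)

theorem self : II Q y d ≤ UU t y d := by
  obtain ⟨w, w1, w3, c⟩ := h.exists_w
  have TU := h.c2.syl.le.trans h.nU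
  have key : ∀ g ∈ Nm (T ⊓ C1 d), g ∈ Nm (VV t d) → ∀ i ∈ T ⊓ C1 d,
      i * (g * (y * d * y⁻¹) * g⁻¹) * i⁻¹ * (g * (y * d * y⁻¹) * g⁻¹)⁻¹ ∈ VV t d :=
    fun g g1 g2 i hi => by
      have i1 := (conj_mem_of_norm' g1 hi).1
      have := conj_mem_of_norm g2 (h.eV (TU i1) (h.nV i1))
      convert this using 1; group
  have b1 : ∀ g ∈ Nm (T ⊓ C1 d), g ∈ Nm (VV t d) → g * (y * d * y⁻¹) * g⁻¹ ∉ Q →
      II Q y d ≤ UU t y d := fun g g1 g2 e a ha =>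
    h.c2.dd (zpU t y d (mem_zpowers t)) h.cf.UR TU h.cf.yU (conj_mem_of_norm g1 h.eI).1 e
      (Cf.IR ha) (comm_symm (VU t y d (key g g1 g2 a (h.II_le ha))))
      (comm_symm (VU t y d (key g g1 g2 _ (h.II_le (conj_mem_of_norm h.cf.yI ha)))))
  by_cases q1 : w * (y * d * y⁻¹) * w⁻¹ ∈ Q
  swap; · exact b1 w w1 c.nV q1
  by_cases q2 : w⁻¹ * (y * d * y⁻¹) * w⁻¹⁻¹ ∈ Q
  swap; · exact b1 _ (inv_mem w1) (inv_mem c.nV) q2
  by_cases q3 : w * (y * d * y⁻¹) * w⁻¹ ∈ UU t y d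
  · exact h.case_a w1 c q3
  exfalso
  have l1 := h.cf.li q1 fun r hr => key w w1 c.nV r (h.II_le hr)
  have l2 := h.cf.li q2 fun r hr => key _ (inv_mem w1) (inv_mem c.nV) r (h.II_le hr)
  have p1 := h.cf.conj.dc _ q1
  have p2 := conj_zp (g := w) (h.cf.conj.dc _ q2)
  have p3 := conj_mem_of_norm w1 h.eI
  have p4 := conj_sq (g := w) h.cf.conj.d2
  have mI := fun {a} => h.mem_II (a := a)
  have eC : ∀ a ∈ II Q y d, a * (y * d * y⁻¹) = y * d * y⁻¹ * a := fun a ha => mem_C1.1 ha.2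
  generalize y * d * y⁻¹ = e at *
  have p5 : w * e * w⁻¹ ∈ II Q y d := mI p3 (eq_of_comm_one (eq_one_of_zp h.cf.d2 h.cf.dt p1 (by
    rw [c.gt] at p2
    refine comm_symm ?_
    convert p2 using 1; group)))
  have i1 : I2 (II Q y d ⊓ C1 (w * e * w⁻¹)) (II Q y d) :=
    i2_cent h.cf.t2 (fun b hb => h.cf.cen b (Cf.IR hb)) l1
  have nle : ¬ II Q y d ≤ C1 (w * e * w⁻¹) := fun f =>
    q3 (h.cf.k1 ⟨p5, p4, fun a ha => mem_C1.1 (f ha)⟩)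
  obtain ⟨r, r1, r2⟩ := SetLike.not_le_iff_exists.1 nle
  have pg := h.c2.pg.to_le (Cf.IR (y := y) (d := d))
  have n1 := i1.card r1 fun f => r2 f.2
  have n2 := h.c2.h6.card_two (n := 1) pg h.c2.h6.y1 (by rw [pow_one, h.c2.h6.y3]) h.cf.yI
    (h.cf.UI (zpU t y d (mem_zpowers t))) h.cf.yt h.cf.t1
  have wJ : w ∈ Nm (II Q y d ⊓ C1 (w * e * w⁻¹)) := mem_norm_of_conj fun j hj => by
    have j1 := mI (conj_mem_of_norm' w1 (h.II_le hj.1)) (by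
      simpa [mul_assoc] using conj_comm (g := w⁻¹) (mem_C1.1 hj.2))
    have j2 := conj_zp (g := w) (l1 _ j1)
    rw [c.gt] at j2
    have j3 := eq_of_comm_one (eq_one_of_zp h.cf.d2 h.cf.dt (l2 j hj.1) (by
      rw [inv_inv, ← yy w3]
      generalize w * e * w⁻¹ = x at j2 ⊢
      convert j2 using 1; simp [mul_assoc]))
    exact ⟨mI (conj_mem_of_norm w1 (h.II_le hj.1)) (by
      simpa [mul_assoc] using conj_comm (g := w) j3), mem_C1.2 (conj_comm (eC j hj.1))⟩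
  have fp := h.c2.h6.fpf pg.to_inf_left (fun f => h.cf.dt (by
    rw [← c.gt, f]; simp)) w3 wJ (by omega)
  generalize w * e * w⁻¹ = x at *
  have x1 := fp.core_cm (a := y * x * y⁻¹) ⟨conj_mem_of_norm h.cf.yI p5,
    mem_C1.2 (h.cf.toLoc.invol q1 p4).symm⟩ le_rfl wJ (by
      rw [cm_bot]
      exact i2_cent h.cf.t2 (fun b hb => h.cf.cen b (Cf.IR hb.1)) fun b hb =>
        comm_symm (h.cf.fp.cc (Cf.IR hb.1) q1 (comm_symm (l1 b hb.1))))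
  have x2 : ∀ a ∈ II Q y d ⊓ C1 x, y⁻¹ * a * y ∈ II Q y d ⊓ C1 x := fun a ha =>
    ⟨conj_mem_of_norm' h.cf.yI ha.1, mem_C1.2 (by
      simpa [mul_assoc] using conj_comm (g := y⁻¹) (eq_of_comm_one (x1 a ha)))⟩
  exact nle (h.cf.fp.core Cf.IR h.cf.yI (fun a ha f => by
      have := (x2 _ (x2 a ⟨ha, f⟩)).2
      rwa [← yy h.c2.h6.y3 (y⁻¹ * a * y), show y * (y⁻¹ * a * y) * y⁻¹ = a by group] at this)
    (zpowers_le.2 (mem_C1.2 (h.cf.cen x q1).symm))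
    fun a ha b hb a1 b1 => (i1.mul a ha b hb (fun f => a1 f.2) fun f => b1 f.2).2)

end C3

end Cfsg.Lib.SC6
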