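import Cfsg.Agent.Ord6.Three
import Cfsg.Agent.Solv.FixedPointFree

/-! The case `C(t) / N ≅ S₃`: exclusion of the extraspecial group of order 32. -/

set_option autoImplicit false

namespace Cfsg.Lib.SC6

open Subgroup Cfsg.Lib.Trans
open Cfsg.Lib.Odd3 (conj_mem_of_norm conj_mem_of_norm' mem_norm_of_conj)
open Cfsg.Lib.L3 (sq_cases cube_cases SZ)

variable {G : Type*} [Group G] [Finite G]

omit [Finite G] in
theorem I2.comm {H K : Subgroup G} (h : I2 H K) {a b : G} (ha : a ∈ K) (hb : b ∈ K) :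
    a * b * a⁻¹ * b⁻¹ ∈ H := by
  rw [h.mul_iff (mul_mem (mul_mem ha hb) (inv_mem ha)) (inv_mem hb),
    h.mul_iff (mul_mem ha hb) (inv_mem ha), h.mul_iff ha hb, inv_mem_iff, inv_mem_iff]
  tauto

theorem Cf.cardR {t y d : G} {R : Subgroup G} (h : Cf t y d R) :
    Nat.card R = 2 * Nat.card ↥(R ⊓ C1 d) := by
  obtain ⟨r, r1, r2⟩ := h.exR
  exact h.i2R.card r1 fun e => r2 e.2

namespace C3
variable {t y s d : G} {Q T : Subgroup G} (h : C3 t y s d Q T)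
include h

theorem cardQ : Nat.card Q = 32 := by
  obtain ⟨r, r1, r2⟩ := h.cf.exI
  rw [h.cf.cardR, h.cf.i2I.card r1 r2, le_antisymm h.self h.cf.UI, h.cf.cardU]

theorem cardI : Nat.card ↥(T ⊓ C1 d) = 32 := by
  obtain ⟨r, r1, r2⟩ := h.cf.exR
  have := h.i2T.card (h.c2.i2.le r1) fun e => r2 e.2
  have := h.c2.i2.card h.c2.sT h.c2.sQ
  have := h.cardQ
  omega

theorem comm {a b : G} (ha : a ∈ Q) (hb : b ∈ Q) : b * a * b⁻¹ * a⁻¹ ∈ zpowers t := by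
  obtain ⟨r, r1, r2⟩ := h.cf.exI
  have hf := h.cf.fp
  have r3 := hf.conj r1.1
  have r4 : y * r * y⁻¹ ∉ Q ⊓ C1 d := fun c => r2 (by
    simpa [mul_assoc] using conj_mem_of_norm' h.cf.yI ⟨c, mem_C1.2 (conj_comm (mem_C1.1 r1.2))⟩)
  have key : ∀ a ∈ Q, r * a * r⁻¹ * a⁻¹ ∈ zpowers t →
      ∀ b ∈ Q, b * a * b⁻¹ * a⁻¹ ∈ zpowers t := fun a ha e b hb =>
    (h.cf.i2R.le_of (L := cm (zpowers t) a) r3 r4 (h.cf.i2I.le_of r1 r2
      (fun u hu => ⟨hf.nD (Cf.IR hu), comm_symm (h.cf.Uc (h.self hu) ha)⟩) ⟨hf.nD r1.1, e⟩)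
      ⟨hf.nD r3, hf.cc ha r1.1 e⟩ hb).2
  exact key a ha (comm_symm (key r r1.1 (by simp) a ha)) b hb

theorem cf_of {x : G} (hx : x ∈ Q) (x2 : x * x = 1) (x1 : x ∉ zpowers t) : Cf t y x Q :=
  ⟨h.cf.toLoc, h.cf.zc, hx, x2, x1, fun _ ha => h.comm hx ha⟩

theorem exists_x : ∃ x ∈ Q, x * x = 1 ∧ x ∉ UU t y d := by
  obtain ⟨r, r1, r2⟩ := h.cf.exI
  have r3 : r * r ∈ zpowers t := h.cf.zc ⟨mul_mem r1.1 r1.1,
    (h.cf.U_om (h.self (h.cf.i2I.sq r1))).2.1, fun a ha =>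
      (mem_C1.1 ((i2_cent h.cf.t2 h.cf.cen fun b hb => h.comm ha hb).sq r1.1).2).symm⟩
  rcases sq_cases h.cf.t2 r3 with e | e
  · exact ⟨r, r1.1, e, fun c => r2 (h.cf.UI c)⟩
  · refine ⟨r * (y * d * y⁻¹), mul_mem r1.1 h.cf.conj.dR, ?_,
      fun c => r2 (h.cf.UI ((mul_mem_cancel_right (eU t y d)).1 c))⟩
    have e1 := (h.cf.toLoc.conj_cases (h.cf.conj.dc r r1.1)).resolve_left
      fun c => r2 ⟨r1, mem_C1.2 c⟩
    have e2 := h.cf.conj.d2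
    have e3 := h.cf.conj.td
    generalize y * d * y⁻¹ = x at *
    calc _ = r * x * r⁻¹ * (r * r) * x := by group
      _ = t * (x * t) * x := by rw [e1, e]; group
      _ = 1 := by rw [e3, ← mul_assoc, h.cf.t2, one_mul, e2]

theorem fact_n {x : G} (hx : x ∈ Q) (x2 : x * x = 1) (x1 : x ∉ zpowers t) :
    ∃ k ∈ C1 t, ∃ g ∈ T, g ∉ Q ∧ g ∈ C1 (k * x * k⁻¹) := by
  have := Fact.mk Nat.prime_two
  have cx := h.cf_of hx x2 x1
  obtain ⟨S, s1, s2⟩ := exists_isSylowIn_ge (Q := Q ⊓ C1 x) (H := C1 t ⊓ C1 x) h.c2.pg.to_inf_left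
    (inf_le_inf_right _ (h.c2.i2.le.trans h.c2.syl.le))
  by_cases c : S ≤ Q
  swap
  · obtain ⟨g, g1, g2⟩ := SetLike.not_le_iff_exists.1 c
    obtain ⟨k, k1, k2⟩ := h.c2.syl.exists_cj_le s1.isPGroup (s1.le.trans inf_le_left)
    exact ⟨k, k1, _, cj_le_iff.1 k2 g g1,
      fun e => g2 (by simpa [mul_assoc] using conj_mem_of_norm' (h.c2.nQ k1) e),
      mem_C1.2 (conj_comm (mem_C1.1 (s1.le g1).2))⟩
  exfalso
  obtain rfl : S = Q ⊓ C1 x := le_antisymm (le_inf c (s1.le.trans inf_le_right)) s2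
  obtain ⟨g, rfl⟩ := h.c2.h6.conj x x2 fun e => x1 (e ▸ one_mem _)
  have hT := h.c2.h6.syl_top h.cf.t2 h.cf.t1 h.c2.syl
  obtain ⟨c, c1, c2⟩ := ((hT.cj_of_mem (mem_top g)).mono (K := C1 (g * t * g⁻¹))
    (cj_le_iff.2 fun a ha => mem_C1.2 (conj_comm (h.c2.cT ha))) le_top).exists_cj_le
    s1.isPGroup inf_le_right
  have k1 : g⁻¹ * c * (g * t * g⁻¹) * (g⁻¹ * c)⁻¹ = t := by
    rw [mul_assoc g⁻¹, mem_C1.1 c1]; group
  have k2 : cj (g⁻¹ * c) (Q ⊓ C1 (g * t * g⁻¹)) ≤ T := by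
    rw [cj_mul]; exact cj_inv_le_iff_le_cj.2 c2
  generalize g⁻¹ * c = k at k1 k2
  generalize g * t * g⁻¹ = x at *
  obtain ⟨r, r1, r2⟩ := cx.exI
  have e1 : y * x * y⁻¹ ∈ Q ⊓ C1 x := (cx.UI (eU t y x)).1
  have e2 : k * t * k⁻¹ = k * r * k⁻¹ * (k * (y * x * y⁻¹) * k⁻¹) * (k * r * k⁻¹)⁻¹ *
      (k * (y * x * y⁻¹) * k⁻¹)⁻¹ := by
    rw [← (sq_cases h.cf.t2 (cx.conj.dc r r1.1)).resolve_left
      fun c => r2 ⟨r1, mem_C1.2 (eq_of_comm_one c)⟩]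
    group
  have e3 : k * t * k⁻¹ ∉ zpowers t := fun c => by
    have := (sq_cases h.cf.t2 c).resolve_left (conj_ne_one h.cf.t1)
    exact x1 ((mul_left_cancel (mul_right_cancel (this.trans k1.symm)) : t = x) ▸ mem_zpowers t)
  have ct := h.cf_of (e2 ▸ h.c2.i2.comm (cj_le_iff.1 k2 r r1) (cj_le_iff.1 k2 _ e1))
    (conj_sq h.cf.t2) e3
  have n1 := cx.cardR
  have n2 := ct.cardR
  have n3 : Nat.card ↥(T ⊓ C1 (k * t * k⁻¹)) ≤ Nat.card ↥(Q ⊓ C1 x) := by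
    rw [← card_cj k⁻¹]
    refine s1.card_le (isPGroup_cj h.c2.syl.isPGroup.to_inf_left _) (cj_le_iff.2 fun a ha =>
      ⟨mem_C1.2 ?_, mem_C1.2 ?_⟩)
    · simpa [mul_assoc] using conj_comm (g := k⁻¹) (mem_C1.1 ha.2)
    · have := h.c2.cT ha.1
      rw [← k1] at this
      simpa [mul_assoc] using conj_comm (g := k⁻¹) this
  have n4 : Q ⊓ C1 (k * t * k⁻¹) = T ⊓ C1 (k * t * k⁻¹) :=
    eq_of_le_of_card_ge (inf_le_inf_right _ h.c2.i2.le) (by omega)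
  have n5 : ∀ a ∈ Q ⊓ C1 x, k * a * k⁻¹ ∈ Q := fun a ha =>
    (n4.ge ⟨cj_le_iff.1 k2 a ha, mem_C1.2 (conj_comm (h.cf.cen a ha.1))⟩).1
  exact e3 (e2 ▸ h.comm (n5 _ e1) (n5 r r1))

theorem exists_d : ∃ x, C3 t y s x Q T ∧ x ∉ UU t y d := by
  obtain ⟨x, x1, x2, x3⟩ := h.exists_x
  obtain ⟨k, k1, g, g1, g2, g3⟩ := h.fact_n x1 x2 fun e => x3 (zpU t y d e)
  have c := (h.cf_of x1 x2 fun e => x3 (zpU t y d e)).cj (h.c2.nQ k1) (mem_C1.1 k1)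
  exact ⟨_, ⟨h.c2, c, fun a ha => (h.c2.i2.le_of (L := cm (zpowers t) _) g1 g2
    (fun b hb => ⟨c.fp.nD hb, c.dc b hb⟩) ⟨nm_zp (h.c2.cT g1), comm_mem_of_eq (mem_C1.1 g3)⟩ ha).2⟩,
    fun e => x3 (by simpa [mul_assoc] using conj_mem_of_norm' (h.nU k1) e)⟩

theorem comm_d {x : G} (h' : C3 t y s x Q T) : d ∈ C1 x := by
  have hf := h.cf.fp
  have zp : ∀ {a}, a * t = t * a → zpowers t ≤ C1 a := fun e => zpowers_le.2 (mem_C1.2 e.symm)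
  have e1 := h.cf.conj.dR
  have e2 := conj_mem_of_norm (h.c2.i2.nm h.c2.sT) e1
  have e3 : y * d * y⁻¹ ∈ C1 x ↔ s * (y * d * y⁻¹) * s⁻¹ ∈ C1 x := by
    have sy : ∀ {a b : G}, a ∈ C1 b ↔ b ∈ C1 a := fun {a b} => by rw [mem_C1, mem_C1, eq_comm]
    rw [sy (a := s * _ * _), ← (C1 _).mul_mem_cancel_left (zp (h.cf.cen _ e2) (h'.dT s h.c2.sT)),
      inv_mul_cancel_right, sy, mem_C1, mem_C1]
    exact ⟨conj_comm, fun a => by simpa [mul_assoc] using conj_comm (g := s⁻¹) a⟩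
  have e4 := ((h'.cf.i2R.mul_iff e1 e2).2 (by simpa [e1, e2] using e3)).2
  have e5 : s * (y * d * y⁻¹) * s⁻¹ * (y⁻¹ * d * y)⁻¹ ∈ zpowers t := by
    have := conj_mem_of_norm' hf.yD (h.dT s h.c2.sT)
    convert this using 1
    calc _ = s * y * s⁻¹ * (s * d * s⁻¹) * (s * y * s⁻¹)⁻¹ * (y⁻¹ * d * y)⁻¹ := by group
      _ = _ := by rw [h.c2.sy]; group
  have e6 := zp h'.cf.td (hf.norm h.cf.dR)
  have := (C1 x).mul_mem ((C1 x).mul_mem e6 (zp h'.cf.td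
    (conj_mem_of_norm' (nm_zp (h.cf.cen _ (hf.conj' h.cf.dR))) e5))) ((C1 x).inv_mem e4)
  convert this using 1; group

theorem half {x : G} (h' : C3 t y s x Q T) (x1 : x ∉ VV t d) :
    Nat.card ↥(T ⊓ C1 d ⊓ C1 x) = 16 ∧ ∃ w i, w ∈ Nm (T ⊓ C1 d ⊓ C1 x) ∧ w ^ 3 = 1 ∧ Cyc w t d ∧
      i ∈ Nm (T ⊓ C1 d ⊓ C1 x) ∧ i * i = 1 ∧ i ≠ 1 ∧ w * i = i * w ∧
      ∀ a, a ∈ VV t d ↔ a ∈ T ⊓ C1 d ⊓ C1 x ∧ a * a = 1 ∧ a * i = i * a := by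
  have dx := mem_C1.1 (h.comm_d h')
  have xI : x ∈ T ⊓ C1 d := ⟨h.c2.i2.le h'.cf.dR, mem_C1.2 dx.symm⟩
  have i1 : I2 (T ⊓ C1 d ⊓ C1 x) (T ⊓ C1 d) :=
    i2_cent h.cf.t2 (fun b hb => h.c2.cT hb.1) fun b hb => h'.dT b hb.1
  obtain ⟨r, r1, r2⟩ : ∃ r ∈ T ⊓ C1 d, r ∉ C1 x := by
    by_contra! c
    exact x1 (h.omI ⟨xI, h'.cf.d2, fun a ha => mem_C1.1 (c a ha)⟩)
  have n1 := i1.card r1 fun e => r2 e.2
  have n2 := h.cardI
  have VI : VV t d ≤ om (T ⊓ C1 d) := V_le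
    ⟨⟨h.c2.i2.le h.c2.tQ, mem_C1.2 h.cf.td.symm⟩, h.cf.t2, fun a ha => h.c2.cT ha.1⟩
    ⟨⟨h.c2.i2.le h.cf.dR, mem_C1.2 rfl⟩, h.cf.d2, fun a ha => mem_C1.1 ha.2⟩
  have VA : VV t d ≤ om (T ⊓ C1 d ⊓ C1 x) := fun a ha =>
    ⟨⟨(VI ha).1, mem_C1.2 ((VI ha).2.2 x xI).symm⟩, (VI ha).2.1, fun b hb => (VI ha).2.2 b hb.1⟩
  have EA : VV t d ⊔ zpowers x ≤ om (T ⊓ C1 d ⊓ C1 x) := sup_le VA (zpowers_le.2
    ⟨⟨xI, mem_C1.2 rfl⟩, h'.cf.d2, fun b hb => mem_C1.1 hb.2⟩)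
  have n3 := (i2_sup_zp (h.nV xI.1) (h'.cf.d2 ▸ one_mem _)).card (mem_sup_right (mem_zpowers x)) x1
  rw [h.cf.cardV] at n3
  have i2 := I2.of_card (EA.trans (om_le _)) (by omega)
  have ab : ∀ a ∈ T ⊓ C1 d ⊓ C1 x, T ⊓ C1 d ⊓ C1 x ≤ C1 a := fun a ha => by
    by_cases c : a ∈ VV t d ⊔ zpowers x
    · exact fun b hb => mem_C1.2 ((EA c).2.2 b hb)
    · exact i2.le_of ha c (fun b hb => mem_C1.2 ((EA hb).2.2 a ha).symm) (mem_C1.2 rfl)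
  obtain ⟨w, w1, w3, c⟩ := h.exists_w
  have w0 : w ≠ 1 := fun f => h.cf.dt (by rw [← c.gt, f]; simp)
  have x2 := conj_mem_of_norm w1 xI
  have x3 : w * x * w⁻¹ ∈ C1 x := mem_C1.2 (eq_of_comm_one (eq_one_of_zp h.cf.d2 h.cf.dt
    (h'.dT _ x2.1) (comm_symm (by
      have := conj_zp (g := w) (h'.dT _ (conj_mem_of_norm' w1 xI).1)
      rw [c.gt] at this
      convert this using 1; group))))
  have wA : w ∈ Nm (T ⊓ C1 d ⊓ C1 x) := inv_mem_iff.1 (mem_norm_of_conj fun a ha =>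
    ⟨conj_mem_of_norm (inv_mem w1) ha.1, mem_C1.2 (by
      simpa [mul_assoc] using conj_comm (g := w⁻¹) (mem_C1.1 (ab _ ⟨x2, x3⟩ ha)))⟩)
  have pg : IsPGroup 2 ↥(T ⊓ C1 d) := h.c2.syl.isPGroup.to_inf_left
  obtain ⟨i, j1, j2, j3⟩ := fix_of_card (n := 1) (by rw [pow_one, w3]) w1 (by omega)
  have j4 : i ∉ T ⊓ C1 d ⊓ C1 x := fun e => by
    have := h.c2.h6.card_two (n := 1) pg.to_inf_left w0 (by rw [pow_one, w3]) wA e j3 j2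
    omega
  exact ⟨by omega, w, i, wA, w3, c, i1.nm j1,
    ((h.c2.h6.cube (n := 1) pg (by rw [pow_one, w3]) j1 j3 j2).resolve_right w0).1, j2, j3,
    fun a => ⟨fun ha => ⟨(VA ha).1, (VA ha).2.1, ((VI ha).2.2 i j1).symm⟩, fun ⟨a1, a2, a3⟩ =>
      h.omI ⟨a1.1, a2, fun b hb => mem_C1.1 (i1.le_of j1 j4 (ab a a1) (mem_C1.2 a3.symm) hb)⟩⟩⟩

theorem false : False := by
  have := Fact.mk Nat.prime_two
  have := Fact.mk Nat.prime_three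
  have h6 := h.c2.h6
  obtain ⟨x, h', x1⟩ := h.exists_d
  obtain ⟨n1, w, i, w1, w3, c, i1, i2, i3, i4, i5⟩ := h.half h' fun e => x1 (VU t y d e)
  obtain ⟨-, v, j, v1, v3, c', j1, j2, j3, j4, j5⟩ := h'.half h fun e => x1 (by
    rcases (mem_V h'.cf.td h'.cf.d2).1 e with e | e
    · exact absurd e h.cf.dt
    · exact (mul_mem_cancel_left (VU t y d (dV t d))).1 (zpU t y d e))
  rw [inf_right_comm] at v1 j1 j5
  have pg : IsPGroup 2 ↥(T ⊓ C1 d ⊓ C1 x) := h.c2.syl.isPGroup.to_inf_left.to_inf_left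
  generalize T ⊓ C1 d ⊓ C1 x = A at *
  have w0 : w ≠ 1 := fun f => h.cf.dt (by rw [← c.gt, f]; simp)
  have v0 : v ≠ 1 := fun f => h'.cf.dt (by rw [← c'.gt, f]; simp)
  obtain ⟨P, p1, p2⟩ := exists_isSylowIn_ge (p := 3) (H := Nm A)
    (L3.pgroup_zpowers (k := 1) (by rw [pow_one, w3])) (zpowers_le.2 w1)
  have p3 := Solv.Fpf.card_dvd_card_sub_one p1.le fun g hg g1 => eq_bot_iff.2 fun a ha => by
    by_contra e
    obtain ⟨n, g3⟩ := p1.isPGroup ⟨g, hg⟩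
    have := h6.card_two pg g1 (congrArg Subtype.val g3) (p1.le hg) ha.1 (mem_C1.1 ha.2).symm e
    omega
  obtain rfl : zpowers w = P := eq_of_le_of_card_ge p2 (by
    obtain ⟨k, hk⟩ := p1.isPGroup.exists_card_eq
    rw [Nat.card_zpowers, orderOf_eq_prime w3 w0, hk]
    rw [n1, hk] at p3
    rcases k with _ | _ | k
    · simp
    · simp
    · exact absurd ((Dvd.intro_left (3 ^ k) (by ring) : 9 ∣ 3 ^ (k + 1 + 1)).trans p3) (by norm_num))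
  obtain ⟨a, a1, a2⟩ := L3.exists_conj_mem (k := 1) p1 v1 (by rw [pow_one, v3])
  have a3 : a * j * a⁻¹ ∈ C1 w := by
    have := conj_comm (g := a) j4
    rcases cube_cases w3 a2 with e | e | e
    · exact absurd e (conj_ne_one v0)
    · exact mem_C1.2 (e ▸ this.symm)
    · rw [e] at this
      simpa using mem_C1.2 (Commute.inv_left this).eq.symm
  have p4 : IsSylowIn 2 (zpowers i) (Nm A ⊓ C1 w) :=
    isSylowIn_of_maximal (zpowers_le.2 ⟨i1, mem_C1.2 i4.symm⟩) (pg_zp i2) fun R r1 r2 r3 b hb => by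
      by_cases e : b = 1
      · exact e ▸ one_mem _
      · exact h6.two (n := 1) r1 w0 (by rw [pow_one, w3]) (r2 (mem_zpowers i)) hb i4
          (mem_C1.1 (r3 hb).2).symm i3 e ▸ mem_zpowers i
  obtain ⟨b, b1, b2⟩ := L3.exists_conj_mem (k := 1) p4
    ⟨(Nm A).mul_mem (mul_mem a1 j1) (inv_mem a1), a3⟩ (by rw [pow_one, sq, conj_sq j2])
  have b3 := (sq_cases i2 b2).resolve_left (conj_ne_one (conj_ne_one j3))
  have g1 : ∀ u ∈ VV t x, b * a * u * (b * a)⁻¹ ∈ VV t d := fun u hu => by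
    obtain ⟨u1, u2, u3⟩ := (j5 u).1 hu
    refine (i5 _).2 ⟨conj_mem_of_norm (mul_mem b1.1 a1) u1, conj_sq u2, ?_⟩
    have := conj_comm (g := b * a) u3
    rwa [show b * a * j * (b * a)⁻¹ = i by rw [← b3]; group] at this
  have fin : ∀ k ∈ Nm (VV t d), k * (b * a * t * (b * a)⁻¹) * k⁻¹ ≠ t := fun k hk e => by
    have k1 : k * (b * a) ∈ C1 t := mem_C1.2 (mul_inv_eq_iff_eq_mul.1 (Eq.trans (by group) e))
    have := conj_mem_of_norm' (h.nU k1) (VU t y d (conj_mem_of_norm hk (g1 x (dV t x))))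
    exact x1 (by convert this using 1; group)
  rcases V_cases h.cf.td h.cf.t2 h.cf.d2 (g1 t (tV t x)) with e | e | e | e
  · exact conj_ne_one h.cf.t1 e
  · exact fin 1 (one_mem _) (by rw [e]; simp)
  · exact fin w⁻¹ (inv_mem c.nV) (by rw [e, ← c.gt]; group)
  · exact fin w c.nV (by rw [e, c.gtd])

end C3

end Cfsg.Lib.SC6
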