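import Cfsg.Agent.Ord6.Abs
import Cfsg.Agent.Known.G168Facts

/-! The structure of the centraliser of an involution. -/

set_option autoImplicit false

namespace Cfsg.Lib.SC6

open Subgroup Cfsg.Lib.Trans
open Cfsg.Lib.Odd3 (SC Inv PP conj_mem_of_norm conj_mem_of_norm' mem_norm_of_conj exists_pp)
open Cfsg.Lib.L3 (sq_cases cube_cases SZ)

variable {G : Type*} [Group G] [Finite G]

omit [Finite G] in
theorem q1 {X Z : Subgroup G} [(Z.subgroupOf X).Normal] (a : X) :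
    QuotientGroup.mk' (Z.subgroupOf X) a = 1 ↔ (a : G) ∈ Z := QuotientGroup.eq_one_iff a

omit [Finite G] in
theorem sc_of_sz {X Z : Subgroup G} {y : G} (e : SZ X Z y) [(Z.subgroupOf X).Normal] :
    SC (QuotientGroup.mk' (Z.subgroupOf X) ⟨y, e.mem⟩) :=
  ⟨fun a => e.nmem ((q1 _).1 a), by rw [← map_pow]; exact (q1 _).2 e.cube,
    fun g hg => by
      obtain ⟨g, rfl⟩ := QuotientGroup.mk'_surjective _ g
      rcases e.cent g g.2 ((q1 (g * ⟨y, e.mem⟩ * g⁻¹ * ⟨y, e.mem⟩⁻¹)).1 (by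
        rw [map_mul, map_mul, map_mul, map_inv, map_inv, hg]; group)) with a | a | a
      · exact Or.inl ((q1 g).2 a)
      · exact Or.inr (Or.inl (mul_inv_eq_one.1 (by
          rw [← map_inv, ← map_mul]; exact (q1 _).2 a)))
      · exact Or.inr (Or.inr (eq_inv_of_mul_eq_one_left (by rw [← map_mul]; exact (q1 _).2 a)))⟩

omit [Finite G] in
theorem le_of_map_top {X Z H : Subgroup G} [(Z.subgroupOf X).Normal] (hZ : Z ≤ H)
    (h : (H.subgroupOf X).map (QuotientGroup.mk' (Z.subgroupOf X)) = ⊤) : X ≤ H := fun g hg => by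
  obtain ⟨a, ha, e⟩ : (QuotientGroup.mk' (Z.subgroupOf X)) ⟨g, hg⟩ ∈
    (H.subgroupOf X).map (QuotientGroup.mk' (Z.subgroupOf X)) := h ▸ mem_top _
  exact (H.mul_mem_cancel_left (inv_mem ha)).1 (hZ ((q1 (a⁻¹ * ⟨g, hg⟩)).1 (by
    rw [map_mul, map_inv, e, inv_mul_cancel])))

omit [Finite G] in
theorem cent_le_map {X Z H : Subgroup G} [(Z.subgroupOf X).Normal]
    {P : Subgroup (X ⧸ Z.subgroupOf X)}
    (h : ∀ c ∈ X, (∀ a : X, QuotientGroup.mk' (Z.subgroupOf X) a ∈ P →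
      c * a * c⁻¹ * (a : G)⁻¹ ∈ Z) → c ∈ H) :
    centralizer (P : Set (X ⧸ Z.subgroupOf X)) ≤
      (H.subgroupOf X).map (QuotientGroup.mk' (Z.subgroupOf X)) := fun c hc => by
  obtain ⟨c, rfl⟩ := QuotientGroup.mk'_surjective _ c
  refine ⟨c, h c c.2 fun a ha => (q1 (c * a * c⁻¹ * a⁻¹)).1 ?_, rfl⟩
  rw [map_mul, map_mul, map_mul, map_inv, map_inv, ← mem_centralizer_iff.1 hc _ ha]
  group

theorem sz_gen {X Z T H : Subgroup G} {y : G} (e : SZ X Z y) (hn : X ≤ Nm Z)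
    (hT : IsSylowIn 2 T X) (hZ : Z ≤ T) (nT : X ≤ Nm T) (h1 : y ∈ H) (h2 : T ≤ H)
    (h3 : ∀ c ∈ X, (∀ a ∈ T, c * a * c⁻¹ * a⁻¹ ∈ Z) → c ∈ H) : X ≤ H := by
  have hN : (Z.subgroupOf X).Normal := ⟨fun a ha g => conj_mem_of_norm (A := Z) (hn g.2) ha⟩
  have hs := QuotientGroup.mk'_surjective (Z.subgroupOf X)
  have hN' : (T.subgroupOf X).Normal := ⟨fun a ha g => conj_mem_of_norm (A := T) (nT g.2) ha⟩
  have := hN'.map _ hs
  have h4 := hT.subgroupOf_top.map (QuotientGroup.mk' (Z.subgroupOf X))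
  rw [map_top_of_surjective _ hs] at h4
  exact le_of_map_top (hZ.trans h2) (abs_gen (sc_of_sz e) h4 ⟨_, h1, rfl⟩
    (map_mono fun a ha => h2 ha) (cent_le_map fun c hc a => h3 c hc fun b hb =>
      a ⟨b, hT.le hb⟩ ⟨_, hb, rfl⟩))

/-- The case in which the centraliser of `t` has the symmetric group of degree three on top. -/
structure C2 (t y s : G) (Q T : Subgroup G) : Prop where
  h6 : H6 t y
  syl : IsSylowIn 2 T (C1 t)
  i2 : I2 Q T
  tQ : t ∈ Q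
  sT : s ∈ T
  sQ : s ∉ Q
  sy : s * y * s⁻¹ = y⁻¹
  nQ : C1 t ≤ Nm Q
  solv : Group.IsSolvable (C1 t)
  gen : ∀ H, y ∈ H → s ∈ H → Q ≤ H →
    (∀ c ∈ C1 t, (∀ a ∈ Q, c * a * c⁻¹ * a⁻¹ ∈ zpowers t) → c ∈ H) → C1 t ≤ H

theorem H6.tri {t y z : G} (h : H6 t y) (z1 : z * t = t * z) (z2 : z * z = 1)
    (z3 : z ∉ zpowers t) :
    (∃ T, IsSylowIn 2 T (C1 t) ∧ y ∈ Nm T) ∨ ∃ Q T s, C2 t y s Q T := by
  have := Fact.mk Nat.prime_two
  have hZ : zpowers t ≤ C1 t := zpowers_le.2 (mem_C1.2 rfl)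
  have zc : ∀ a ∈ zpowers t, a * a = 1 ∧ ∀ b ∈ C1 t, a * b = b * a := fun a ha => by
    rcases sq_cases h.t2 ha with rfl | rfl
    · simp
    · exact ⟨h.t2, fun b hb => (mem_C1.1 hb).symm⟩
  have e : SZ (C1 t) (zpowers t) y := L3.sz_of_central (mem_C1.2 h.yt) h.y3 h.y1
    (fun a ha => ⟨(zc a ha).1, (zc a ha).2 y (mem_C1.2 h.yt)⟩)
    fun k hk e => h.cent k (mem_C1.1 hk) e
  have hN : ((zpowers t).subgroupOf (C1 t)).Normal :=
    ⟨fun a ha g => conj_mem_of_norm (A := zpowers t) (nm_zp (mem_C1.1 g.2)) ha⟩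
  let π := QuotientGroup.mk' ((zpowers t).subgroupOf (C1 t))
  have hs : Function.Surjective π := QuotientGroup.mk'_surjective _
  have hπ : ∀ a : C1 t, π a = 1 ↔ (a : G) ∈ zpowers t := fun a => QuotientGroup.eq_one_iff a
  have hk : IsPGroup 2 π.ker := by
    rw [QuotientGroup.ker_mk']; exact isPGroup_subgroupOf (pg_zp h.t2) _
  have hm : ∀ (P : Subgroup _) (a : C1 t), (a : G) ∈ (P.comap π).map (C1 t).subtype ↔ π a ∈ P :=
    fun P a => ⟨fun ⟨w, hw, e⟩ => (Subtype.ext e : w = a) ▸ hw, fun e => ⟨a, e, rfl⟩⟩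
  have hsyl : ∀ P : Subgroup _, IsSylowIn 2 P ⊤ →
      IsSylowIn 2 ((P.comap π).map (C1 t).subtype) (C1 t) := fun P hP => by
    have := (hP.comap π hk (MonoidHom.range_eq_top.2 hs).ge).map (C1 t).subtype
    rwa [comap_top, ← MonoidHom.range_eq_map, range_subtype] at this
  have hnm : ∀ (P : Subgroup _) (g : C1 t), π g ∈ Nm P →
      (g : G) ∈ Nm ((P.comap π).map (C1 t).subtype) := fun P g hg => mem_norm_of_conj (by
    rintro _ ⟨a, ha, rfl⟩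
    exact ⟨g * a * g⁻¹, by simpa using conj_mem_of_norm hg ha, rfl⟩)
  have hx := sc_of_sz e
  rcases abs_tri hx with ⟨P, p1, p2⟩ | ⟨P, T, s, p1, p2, p3, p4, p5, p6, p7, p8⟩ | ⟨p1, p2⟩
  · exact Or.inl ⟨_, hsyl P p1, hnm P ⟨y, e.mem⟩ p2⟩
  · obtain ⟨s, rfl⟩ := hs s
    refine Or.inr ⟨(P.comap π).map (C1 t).subtype, _, s, h, hsyl T p2,
      ⟨map_mono (comap_mono p3.le), ?_⟩, (hm P ⟨t, mem_C1.2 rfl⟩).2 (by
        rw [(hπ _).2 (mem_zpowers t)]; exact one_mem _), (hm T s).2 p4, fun c => p5 ((hm P s).1 c),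
      ?_, fun g hg => hnm P ⟨g, hg⟩ (mem_norm_of_conj fun a ha => p1.conj_mem a ha _), ?_,
      fun H h1 h2 h3 h4 => ?_⟩
    · rintro _ ⟨a, ha, rfl⟩ _ ⟨b, hb, rfl⟩ a1 b1
      exact (hm P (a * b)).2 (p3.mul _ ha _ hb (fun c => a1 ((hm P a).2 c))
        fun c => b1 ((hm P b).2 c))
    · rcases sq_cases h.t2 ((hπ (s * ⟨y, e.mem⟩ * s⁻¹ * ⟨y, e.mem⟩)).1 (by
        rw [map_mul, map_mul, map_mul, map_inv]
        exact mul_eq_one_iff_eq_inv.2 p6)) with c | c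
      · exact mul_eq_one_iff_eq_inv.1 c
      · refine absurd ?_ h.t1
        have c1 : (s : G) * y * (s : G)⁻¹ = t * y⁻¹ := eq_mul_inv_of_mul_eq c
        have c2 : (t * y⁻¹) ^ 3 = 1 := by rw [← c1, conj_pow, h.y3]; group
        rwa [Commute.mul_pow h.inv.yt.symm, h.inv.y3, mul_one, pow_three', h.t2, one_mul] at c2
    · have := (isPGroup_subgroupOf (pg_zp h.t2) (C1 t)).isNilpotent
      exact (Group.isSolvable_iff_subgroup_quotient _).2 ⟨inferInstance, p7⟩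
    · refine le_of_map_top (Z := zpowers t) (fun a ha => h3 ((hm P ⟨a, hZ ha⟩).2 (by
        rw [(hπ _).2 ha]; exact one_mem _))) (p8 _ ⟨_, h1, rfl⟩ ⟨_, h2, rfl⟩ (fun a ha => ?_)
        (cent_le_map fun c hc a => h4 c hc ?_))
      · obtain ⟨a, rfl⟩ := hs a
        exact ⟨a, h3 ((hm P a).2 ha), rfl⟩
      · rintro _ ⟨b, hb, rfl⟩
        exact a b hb
  · exfalso
    obtain ⟨f⟩ := Known.G168.nonempty_equiv p2
    have cj := fun a b => Known.G168.isConj_of_rep f Known.G168.conj_two (s := a) (t := b)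
    have o2 : ∀ a : C1 t, (a : G) ∉ zpowers t → (a : G) * a ∈ zpowers t → orderOf (π a) = 2 :=
      fun a a1 a2 => orderOf_eq_prime (by rw [sq, ← map_mul]; exact (hπ _).2 a2)
        fun c => a1 ((hπ a).1 c)
    have key : ∀ a : C1 t, orderOf (π a) = 2 → (a : G) * a = 1 := fun a ha => by
      obtain ⟨c, hc⟩ := isConj_iff.1 (cj _ _ (o2 ⟨z, mem_C1.2 z1⟩ z3 (z2 ▸ one_mem _)) ha)
      obtain ⟨c, rfl⟩ := hs c
      obtain ⟨b1, b2⟩ := zc _ ((hπ (a * (c * ⟨z, mem_C1.2 z1⟩ * c⁻¹)⁻¹)).1 (by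
        rw [map_mul, map_inv, map_mul, map_mul, map_inv, hc, mul_inv_cancel]))
      have b3 := b2 _ (c * ⟨z, mem_C1.2 z1⟩ * c⁻¹).2
      have b4 : (c : G) * z * (c : G)⁻¹ * (c * z * (c : G)⁻¹) = 1 := conj_sq z2
      change (a : G) * ((c : G) * z * (c : G)⁻¹)⁻¹ * (a * ((c : G) * z * (c : G)⁻¹)⁻¹) = 1 at b1
      change (a : G) * ((c : G) * z * (c : G)⁻¹)⁻¹ * ((c : G) * z * (c : G)⁻¹) =
        (c : G) * z * (c : G)⁻¹ * (a * ((c : G) * z * (c : G)⁻¹)⁻¹) at b3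
      generalize (c : G) * z * (c : G)⁻¹ = v at b1 b3 b4
      calc (a : G) * a = a * v⁻¹ * (v * (a * v⁻¹)) * v := by group
        _ = a * v⁻¹ * (a * v⁻¹) * (v * v) := by rw [← b3]; group
        _ = 1 := by rw [b1, b4, one_mul]
    obtain ⟨r, -, r4, -⟩ := Known.G168.exists_dihedral_gens f
      (o2 ⟨z, mem_C1.2 z1⟩ z3 (z2 ▸ one_mem _))
    obtain ⟨r, rfl⟩ := hs r
    have r2 : orderOf (π (r * r)) = 2 := by rw [map_mul, ← sq, orderOf_pow' _ two_ne_zero, r4]; rfl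
    obtain ⟨k, hk⟩ := h.conj _ (key _ r2) fun c => by
      rw [(hπ _).2 (c ▸ one_mem _)] at r2; simp at r2
    have k1 : k⁻¹ * r * k * (k⁻¹ * r * k) = t := by
      calc _ = k⁻¹ * ((r * r : C1 t) : G) * k := by push_cast; group
        _ = t := by rw [← hk]; group
    have k2 : k⁻¹ * r * k ∈ C1 t := mem_C1.2 (by
      generalize k⁻¹ * (r : G) * k = v at k1
      rw [← k1, mul_assoc])
    exact h.t1 (k1 ▸ key ⟨_, k2⟩ (o2 _ (fun c => h.t1 (k1 ▸ (zc _ c).1))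
      (by rw [k1]; exact mem_zpowers t)))

end Cfsg.Lib.SC6
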