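import Cfsg.Agent.Ord6.Hyp
import Cfsg.Agent.Trans.LocalTools
import Cfsg.Agent.Base.RedMult
import Cfsg.Agent.Char.Odd3FT

/-! Groups with a self-centralising element of order three: the Sylow 2-subgroups. -/

set_option autoImplicit false

namespace Cfsg.Lib.SC6

open Subgroup Cfsg.Lib.Trans
open Cfsg.Lib.Odd3 (SC Inv PP conj_mem_of_norm conj_mem_of_norm' mem_norm_of_conj exists_pp)
open Cfsg.Lib.L3 (sq_cases cube_cases)

variable {K : Type*} [Group K] [Finite K]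

/-- An odd power of an element is a 2-element. -/
theorem odd_pow (g : K) : ∃ m n : ℕ, (g ^ (2 * m + 1)) ^ 2 ^ n = 1 := by
  obtain ⟨n, m, h1, h2⟩ := Nat.exists_eq_pow_mul_and_not_dvd (orderOf_pos g).ne' 2 (by norm_num)
  refine ⟨m / 2, n, ?_⟩
  rw [show 2 * (m / 2) + 1 = m by omega, ← pow_mul, mul_comm, ← h2, pow_orderOf_eq_one]

omit [Finite K] in
theorem conj_odd_pow {g a b : K} (h1 : g * a * g⁻¹ = b) (h2 : g * b * g⁻¹ = a) (m : ℕ) :
    g ^ (2 * m + 1) * a * (g ^ (2 * m + 1))⁻¹ = b := by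
  induction m with
  | zero => simpa using h1
  | succ m ih =>
    calc _ = g * (g * (g ^ (2 * m + 1) * a * (g ^ (2 * m + 1))⁻¹) * g⁻¹) * g⁻¹ := by group
      _ = b := by rw [ih, h2, h1]

theorem mem_of_nm {T : Subgroup K} (hT : IsSylowIn 2 T ⊤) {g : K} {n : ℕ} (hg : g ∈ Nm T)
    (e : g ^ 2 ^ n = 1) : g ∈ T := by
  have := Fact.mk Nat.prime_two
  obtain ⟨c, c1, c2⟩ := L3.exists_conj_mem (hT.mono le_normalizer le_top) hg e
  simpa [mul_assoc] using conj_mem_of_norm' c1 c2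

theorem abs_pp {x : K} (hx : SC x) {N : Subgroup K} (hN : Inv x N) :
    ∃ P, PP 2 N P ∧ IsSylowIn 2 P N ∧ N ≤ P ⊔ centralizer (P : Set K) := by
  have := Fact.mk Nat.prime_two
  have := hN.nilpotent hx
  obtain ⟨P, hP, -⟩ := exists_pp (hN.nilpotent hx) 2
  have hS : IsSylowIn 2 P N := isSylowIn_of_maximal hP.le hP.pg fun Q h1 _ h2 a ha =>
    (hP a).2 ⟨h2 ha, (h1 ⟨a, ha⟩).imp fun _ e => congrArg Subtype.val e⟩
  refine ⟨P, hP, hS, fun n hn => ?_⟩
  obtain ⟨a, ha, c, hc, -, rfl⟩ := hS.exists_mul_eq (C := centralizer (P : Set K))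
    (fun d hd e => mem_centralizer_iff.2 fun b hb => by
      obtain ⟨b1, k, b2⟩ := (hP b).1 hb
      exact congrArg Subtype.val (Char.Brauer.commute_of_pow_eq_one_of_isNilpotent (G := N)
        (e.symm.pow_left k) (x := ⟨b, b1⟩) (y := ⟨d, hd⟩) (Subtype.ext b2)
        (Subtype.ext (pow_orderOf_eq_one d))).eq) hn
  exact mul_mem_sup ha hc

theorem abs_cases {x : K} (hx : SC x) {N : Subgroup K} [N.Normal] (hN : x ∉ N) {g : K}
    (hg : g * x * g⁻¹ * x⁻¹ ∈ N) : g ∈ N ∨ g * x⁻¹ ∈ N ∨ g * x ∈ N := by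
  rcases ((SC.inv_of_normal hN).quot hx).cent (g : K ⧸ N)
    (eq_of_comm_one ((QuotientGroup.eq_one_iff _).2 hg)) with e | e | e
  · exact Or.inl ((QuotientGroup.eq_one_iff _).1 e)
  · exact Or.inr (Or.inl ((QuotientGroup.eq_one_iff _).1 (by simp [e])))
  · exact Or.inr (Or.inr ((QuotientGroup.eq_one_iff _).1 (by simp [e])))

theorem le_of_cases {x g : K} {N H : Subgroup K} (h1 : N ≤ H) (h2 : x ∈ H)
    (h : g ∈ N ∨ g * x⁻¹ ∈ N ∨ g * x ∈ N) : g ∈ H := by
  rcases h with e | e | e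
  · exact h1 e
  · exact (H.mul_mem_cancel_right (inv_mem h2)).1 (h1 e)
  · exact (H.mul_mem_cancel_right h2).1 (h1 e)

theorem abs_burn {x : K} (hx : SC x) (hr : ∀ g, g * x * g⁻¹ ≠ x⁻¹) :
    ∃ P, IsSylowIn 2 P ⊤ ∧ x ∈ Nm P ∧
      ∀ H, x ∈ H → P ≤ H → centralizer (P : Set K) ≤ H → H = ⊤ := by
  obtain ⟨N, hN, h1, h2, h3⟩ := hx.burnside hr
  have := Fact.mk Nat.prime_two
  obtain ⟨P, p1, p2, p3⟩ := abs_pp hx (SC.inv_of_normal h1)
  exact ⟨P, p2.trans le_top (by rw [relIndex_top_right, h2]; norm_num),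
    (p1.inv hx (SC.inv_of_normal h1)).mem_norm hx, fun H a b c => eq_top_iff.2 fun g _ =>
      le_of_cases (p3.trans (sup_le b c)) a (abs_cases hx h1 (h3 g x))⟩

theorem abs_gen {x : K} (hx : SC x) {P : Subgroup K} [hn : P.Normal] (hP : IsSylowIn 2 P ⊤)
    {H : Subgroup K} (h1 : x ∈ H) (h2 : P ≤ H) (h3 : centralizer (P : Set K) ≤ H) : H = ⊤ := by
  have := Fact.mk Nat.prime_two
  have nP : ∀ g, g ∈ Nm P := fun g => mem_norm_of_conj fun a ha => hn.conj_mem a ha g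
  obtain ⟨Q, q1, -, q2⟩ := abs_burn hx fun g hg => by
    obtain ⟨m, n, e⟩ := odd_pow g
    have e1 := mem_of_nm hP (nP _) e
    have e2 := conj_odd_pow hg (by rw [← conj_inv, hg, inv_inv]) m
    have e3 := mul_mem e1 (hn.conj_mem _ (inv_mem e1) x)
    rw [← mul_assoc, ← mul_assoc, e2, hx.inv_mul_inv] at e3
    exact hx.not_mem_two hP.isPGroup e3
  obtain rfl : P = Q := q1.eq_of_le hP.isPGroup (by
    obtain ⟨c, -, e⟩ := hP.exists_cj_eq q1
    intro a ha
    simpa [mul_assoc] using conj_mem_of_norm' (nP c) (cj_le_iff.1 e.le a ha)) le_top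
  exact q2 H h1 h2 h3

theorem abs_tri {x : K} (hx : SC x) : (∃ P, IsSylowIn 2 P ⊤ ∧ x ∈ Nm P) ∨
    (∃ P T s, P.Normal ∧ IsSylowIn 2 T ⊤ ∧ I2 P T ∧ s ∈ T ∧ s ∉ P ∧ s * x * s⁻¹ = x⁻¹ ∧
      Group.IsSolvable K ∧
      ∀ H, x ∈ H → s ∈ H → P ≤ H → centralizer (P : Set K) ≤ H → H = ⊤) ∨
    IsSimpleGroup K ∧ Nat.card K = 168 := by
  have := Fact.mk Nat.prime_two
  rcases hx.concl with ⟨N, hN, h1, h2⟩ | ⟨Q, hQ, h1, h2, h3⟩ | h
  · by_cases hr : ∀ g, g * x * g⁻¹ ≠ x⁻¹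
    · obtain ⟨P, a, b, -⟩ := abs_burn hx hr
      exact Or.inl ⟨P, a, b⟩
    push Not at hr
    obtain ⟨s, hs⟩ := hr
    have hI := SC.inv_of_normal h1
    obtain ⟨P, p1, p2, p3⟩ := abs_pp hx hI
    have nP : ∀ g, g ∈ Nm P := fun g => p1.norm_le (by rw [normalizer_eq_top]; trivial)
    have s1 : s * x⁻¹ * s⁻¹ = x := by rw [← conj_inv, hs, inv_inv]
    have s2 : s * s = 1 := by
      rcases hx.cent (s * s) (mul_inv_eq_iff_eq_mul.1 (by
        calc _ = s * (s * x * s⁻¹) * s⁻¹ := by group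
          _ = x := by rw [hs, s1])) with e | e | e
      · exact e
      · exact absurd (by rw [← hs, ← e]; group) hx.ne_inv
      · exact absurd (s1.symm.trans (by rw [← e]; group)) hx.ne_inv
    have sN : s ∉ N := fun c => h1 (by
      have := mul_mem c (hN.conj_mem _ (inv_mem c) x)
      rwa [← mul_assoc, ← mul_assoc, hs, hx.inv_mul_inv] at this)
    have cs : ∀ g, g * x * g⁻¹ * x⁻¹ ∈ N ∨ g * s * x * (g * s)⁻¹ * x⁻¹ ∈ N := fun g =>
      (h2 g).imp_right fun e => by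
        have := hN.conj_mem _ (inv_mem e) x
        convert this using 1
        calc _ = g * (s * x * s⁻¹) * g⁻¹ * x⁻¹ := by group
          _ = _ := by rw [hs]; group
    obtain ⟨T, t1, t2⟩ := exists_isSylowIn_ge (H := ⊤)
      (IsPGroup.to_sup_of_normal_left' p1.pg (pg_zp s2) (fun g _ => nP g)) le_top
    have sT : s ∈ T := t2 (mem_sup_right (mem_zpowers s))
    have key : ∀ g ∈ T, g * x * g⁻¹ * x⁻¹ ∈ N → g ∈ P := fun g hg e =>
      (p1 g).2 ⟨(hI.cases_of_comm hx e).resolve_right fun c => c.not_mem_two t1.isPGroup hg,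
        (t1.isPGroup ⟨g, hg⟩).imp fun _ e => congrArg Subtype.val e⟩
    refine Or.inr (Or.inl ⟨P, T, s, ⟨fun a ha g => conj_mem_of_norm (nP g) ha⟩, t1,
      ⟨le_sup_left.trans t2, fun a ha b hb a1 b1 => ?_⟩, sT, fun c => sN (p1.le c), hs, ?_,
      fun H a b c d => eq_top_iff.2 fun g _ => ?_⟩)
    · have := mul_mem (key _ (mul_mem ha sT) ((cs a).resolve_left fun c => a1 (key a ha c)))
        (conj_mem_of_norm (nP s) (key _ (mul_mem hb sT)
          ((cs b).resolve_left fun c => b1 (key b hb c))))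
      rwa [show a * s * (s * (b * s) * s⁻¹) = a * (s * s) * b by group, s2, mul_one] at this
    · have := hI.nilpotent hx
      have : Group.IsSolvable (K ⧸ N) := by
        rcases (hI.quot hx).three_or_sym (fun g => by
          obtain ⟨g, rfl⟩ := QuotientGroup.mk_surjective g
          refine (h2 g).imp (fun a => mul_inv_eq_one.1 ?_) fun a => eq_inv_of_mul_eq_one_left ?_ <;>
            exact (QuotientGroup.eq_one_iff _).2 a) with a | ⟨⟨a⟩⟩
        · have := Fact.mk Nat.prime_three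
          have := isCyclic_of_prime_card a
          exact Group.isSolvable_of_comm (IsCyclic.commGroup (α := K ⧸ N)).mul_comm
        · have : Group.IsSolvable (Equiv.Perm (Fin 3)) := Base.isSolvable_perm_of_card_le (by simp)
          exact Group.isSolvable_of_isSolvable_injective (f := a.toMonoidHom) a.injective
      exact (Group.isSolvable_iff_subgroup_quotient N).2 ⟨inferInstance, this⟩
    · have e := p3.trans (sup_le c d)
      rcases cs g with f | f
      · exact le_of_cases e a (abs_cases hx h1 f)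
      · exact (H.mul_mem_cancel_right b).1 (le_of_cases e a (abs_cases hx h1 f))
  · have hI := SC.inv_of_normal (hx.not_mem_two h1)
    obtain ⟨w, w1, w2, w3⟩ := (hI.quot hx).wd_sixty h3
    obtain ⟨D, d1, d2⟩ := w3.exists_inv (hI.quot hx)
    obtain ⟨P, p1, -, -⟩ := abs_pp hx d1.comap
    have pI := p1.inv hx d1.comap
    obtain ⟨w, rfl⟩ := QuotientGroup.mk_surjective w
    have QP : Q ≤ P := fun a ha => (p1 a).2 ⟨by
      rw [mem_comap, QuotientGroup.mk'_apply, (QuotientGroup.eq_one_iff a).2 ha]; exact one_mem _,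
      (h1 ⟨a, ha⟩).imp fun _ e => congrArg Subtype.val e⟩
    have wP : w ∈ P := (p1 w).2 ⟨d2, by
      obtain ⟨k, e⟩ := h1 ⟨w ^ 2, (QuotientGroup.eq_one_iff _).1 w1⟩
      exact ⟨k + 1, by rw [pow_succ', pow_mul]; exact congrArg Subtype.val e⟩⟩
    refine Or.inl ⟨P, ⟨le_top, p1.pg, fun ⟨c, hc⟩ => ?_⟩, pI.mem_norm hx⟩
    have e1 := card_mul_relIndex QP
    have e2 := relIndex_mul_relIndex Q P ⊤ QP le_top
    rw [relIndex_top_right (H := Q), index, h3, hc] at e2
    have e3 := pI.card_mod hx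
    rw [← e1, Nat.mul_mod, hI.card_mod hx] at e3
    have e4 : Q.relIndex P ≠ 1 := fun c =>
      w2 ((QuotientGroup.eq_one_iff _).2 (relIndex_eq_one.1 c wP))
    obtain ⟨j, e5⟩ := p1.pg.index (Q.subgroupOf P)
    change Q.relIndex P = _ at e5
    rw [e5] at e2 e3 e4
    rcases j with _ | _ | j
    · simp at e4
    · simp at e3
    · rw [pow_succ, pow_succ] at e2
      have : 2 ^ j * c * 8 = 60 := by rw [← e2]; ring
      omega
  · exact Or.inr (Or.inr h)

end Cfsg.Lib.SC6
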