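import Cfsg.Agent.Recog.L3Gen
import Cfsg.Agent.Rank2.Fpf3
import Cfsg.Agent.Solv.PGroupNormal

/-! Elementary tools: subgroups of index two, fixed points of 3-elements on 2-groups. -/

set_option autoImplicit false

namespace Cfsg.Lib.SC6

open Subgroup Cfsg.Lib.Trans
open Cfsg.Lib.Odd3 (conj_mem_of_norm conj_mem_of_norm' mem_norm_of_conj)
open Cfsg.Lib.L3 (sq_cases cube_cases)

variable {G : Type*} [Group G]

/-- The normaliser of a subgroup. -/
abbrev Nm (D : Subgroup G) : Subgroup G := normalizer (D : Set G)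

/-- The centraliser of an element. -/
def C1 (a : G) : Subgroup G := centralizer ({a} : Set G)

theorem mem_C1 {a g : G} : g ∈ C1 a ↔ g * a = a * g := mem_centralizer_singleton_iff

/-- Elements normalising `D` and fixing the coset of `a`. -/
def cm (D : Subgroup G) (a : G) : Subgroup G where
  carrier := {b | b ∈ Nm D ∧ b * a * b⁻¹ * a⁻¹ ∈ D}
  one_mem' := ⟨one_mem _, by simp⟩
  mul_mem' := fun {b c} hb hc => ⟨mul_mem hb.1 hc.1, by
    have := D.mul_mem (conj_mem_of_norm hb.1 hc.2) hb.2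
    convert this using 1; group⟩
  inv_mem' := fun {b} hb => ⟨inv_mem hb.1, by
    have := conj_mem_of_norm' hb.1 (D.inv_mem hb.2)
    convert this using 1; group⟩

theorem mem_cm {D : Subgroup G} {a b : G} : b ∈ cm D a ↔ b ∈ Nm D ∧ b * a * b⁻¹ * a⁻¹ ∈ D :=
  Iff.rfl

theorem comm_symm {D : Subgroup G} {a b : G} (h : b * a * b⁻¹ * a⁻¹ ∈ D) :
    a * b * a⁻¹ * b⁻¹ ∈ D := by
  have := D.inv_mem h
  convert this using 1; group

theorem comm_mem_of_eq {D : Subgroup G} {a b : G} (h : b * a = a * b) :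
    b * a * b⁻¹ * a⁻¹ ∈ D := by
  rw [h]; simp

theorem eq_of_comm_one {a b : G} (h : b * a * b⁻¹ * a⁻¹ = 1) : b * a = a * b := by
  rwa [mul_inv_eq_one, mul_inv_eq_iff_eq_mul] at h

/-- The central elements of order at most two. -/
def om (H : Subgroup G) : Subgroup G where
  carrier := {z | z ∈ H ∧ z * z = 1 ∧ ∀ a ∈ H, a * z = z * a}
  one_mem' := ⟨one_mem _, by simp, by simp⟩
  mul_mem' := fun {b c} hb hc => ⟨mul_mem hb.1 hc.1, by
    calc b * c * (b * c) = b * (c * b) * c := by group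
      _ = b * b * (c * c) := by rw [hb.2.2 c hc.1]; group
      _ = 1 := by rw [hb.2.1, hc.2.1, one_mul], fun a ha => by
    rw [← mul_assoc, hb.2.2 a ha, mul_assoc, hc.2.2 a ha, mul_assoc]⟩
  inv_mem' := fun {b} hb => by
    rw [inv_eq_of_mul_eq_one_right hb.2.1]; exact hb

theorem mem_om {H : Subgroup G} {z : G} :
    z ∈ om H ↔ z ∈ H ∧ z * z = 1 ∧ ∀ a ∈ H, a * z = z * a := Iff.rfl

theorem om_le (H : Subgroup G) : om H ≤ H := fun _ h => h.1

theorem conj_mem_om {H : Subgroup G} {g z : G} (hg : g ∈ Nm H) (hz : z ∈ om H) :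
    g * z * g⁻¹ ∈ om H :=
  ⟨conj_mem_of_norm hg hz.1, by
    calc _ = g * (z * z) * g⁻¹ := by group
      _ = 1 := by rw [hz.2.1]; group, fun a ha => by
    calc _ = g * (g⁻¹ * a * g * z) * g⁻¹ := by group
      _ = _ := by rw [hz.2.2 _ (conj_mem_of_norm' hg ha)]; group⟩

theorem nm_om [Finite G] (H : Subgroup G) : Nm H ≤ Nm (om H) := fun _ hg =>
  mem_norm_of_conj fun _ hz => conj_mem_om hg hz

theorem conj_sq {g a : G} (h : a * a = 1) : g * a * g⁻¹ * (g * a * g⁻¹) = 1 := by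
  calc _ = g * (a * a) * g⁻¹ := by group
    _ = 1 := by rw [h]; group

theorem conj_comm {g a b : G} (h : a * b = b * a) :
    g * a * g⁻¹ * (g * b * g⁻¹) = g * b * g⁻¹ * (g * a * g⁻¹) := by
  calc _ = g * (a * b) * g⁻¹ := by group
    _ = _ := by rw [h]; group

theorem conj_eq_of_comm {g a : G} (h : g * a = a * g) : g * a * g⁻¹ = a := by
  rw [h, mul_inv_cancel_right]

theorem conj_ne_one {g a : G} (h : a ≠ 1) : g * a * g⁻¹ ≠ 1 := fun e => h (by
  simpa using e)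

theorem nm_zp [Finite G] {t g : G} (h : g * t = t * g) : g ∈ Nm (zpowers t) :=
  L3.mem_norm_of_comm h

theorem nm_inf {A B : Subgroup G} {g : G} (h1 : g ∈ Nm A) (h2 : g ∈ Nm B) : g ∈ Nm (A ⊓ B) :=
  inf_normalizer_le_normalizer_inf ⟨h1, h2⟩

theorem nm_sup {A B : Subgroup G} {g : G} (h1 : g ∈ Nm A) (h2 : g ∈ Nm B) : g ∈ Nm (A ⊔ B) :=
  normalizer_inf_normalizer_le_normalizer_sup _ _ ⟨h1, h2⟩

theorem nm_self {A : Subgroup G} {g : G} (h : g ∈ A) : g ∈ Nm A := le_normalizer h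

/-! ### Index at most two -/

/-- `H` has index at most two in `K`. -/
structure I2 (H K : Subgroup G) : Prop where
  le : H ≤ K
  mul : ∀ a ∈ K, ∀ b ∈ K, a ∉ H → b ∉ H → a * b ∈ H

namespace I2
variable {H K L : Subgroup G} (h : I2 H K)
include h

theorem mul_inv {a b : G} (ha : a ∈ K) (hb : b ∈ K) (h1 : a ∉ H) (h2 : b ∉ H) : a * b⁻¹ ∈ H :=
  h.mul a ha _ (inv_mem hb) h1 (mt H.inv_mem_iff.1 h2)

theorem inv_mul {a b : G} (ha : a ∈ K) (hb : b ∈ K) (h1 : a ∉ H) (h2 : b ∉ H) : a⁻¹ * b ∈ H :=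
  h.mul _ (inv_mem ha) b hb (mt H.inv_mem_iff.1 h1) h2

theorem sq {a : G} (ha : a ∈ K) : a * a ∈ H := by
  by_cases e : a ∈ H
  · exact mul_mem e e
  · exact h.mul a ha a ha e e

theorem conj {a k : G} (hk : k ∈ K) (ha : a ∈ H) : k * a * k⁻¹ ∈ H := by
  by_cases e : k ∈ H
  · exact mul_mem (mul_mem e ha) (inv_mem e)
  · exact h.mul_inv (mul_mem hk (h.le ha)) hk (fun b => e ((H.mul_mem_cancel_right ha).1 b)) e

theorem nm [Finite G] : K ≤ Nm H := fun _ hk => mem_norm_of_conj fun _ ha => h.conj hk ha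

theorem inf (hL : L ≤ K) : I2 (L ⊓ H) L :=
  ⟨inf_le_left, fun a ha b hb h1 h2 => ⟨mul_mem ha hb, h.mul a (hL ha) b (hL hb)
    (fun e => h1 ⟨ha, e⟩) fun e => h2 ⟨hb, e⟩⟩⟩

theorem mono (h1 : H ≤ L) (h2 : L ≤ K) : I2 L K :=
  ⟨h2, fun a ha b hb e1 e2 => h1 (h.mul a ha b hb (fun e => e1 (h1 e)) fun e => e2 (h1 e))⟩

/-- A subgroup containing `H` and an element outside contains `K`. -/
theorem le_of {a : G} (ha : a ∈ K) (h1 : a ∉ H) (h2 : H ≤ L) (h3 : a ∈ L) : K ≤ L := fun k hk => by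
  by_cases e : k ∈ H
  · exact h2 e
  · exact (L.mul_mem_cancel_right h3).1 (h2 (h.mul k hk a ha e h1))

theorem card {a : G} (ha : a ∈ K) (h1 : a ∉ H) : Nat.card K = 2 * Nat.card H := by
  have : H.relIndex K = 2 := index_eq_two_iff.2 ⟨⟨a, ha⟩, fun b => by
    by_cases e : (b : G) ∈ H
    · exact Or.inr ⟨e, fun c => h1 ((H.mul_mem_cancel_left e).1 c)⟩
    · exact Or.inl ⟨h.mul b b.2 a ha e h1, e⟩⟩
  rw [← card_mul_relIndex h.le, this, mul_comm]

theorem card_le [Finite G] : Nat.card K ≤ 2 * Nat.card H := by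
  by_cases e : K ≤ H
  · have := Subgroup.card_le_of_le e
    omega
  · obtain ⟨a, ha, h1⟩ := SetLike.not_le_iff_exists.1 e
    exact (h.card ha h1).le

end I2

theorem I2.of_card [Finite G] {H K : Subgroup G} (h : H ≤ K) (e : Nat.card K ≤ 2 * Nat.card H) :
    I2 H K := ⟨h, fun a ha b hb h1 h2 => by
  have e1 := card_mul_relIndex h
  have e2 : H.relIndex K ≠ 1 := fun c => h1 (relIndex_eq_one.1 c ha)
  have e3 : H.relIndex K ≠ 0 := (H.subgroupOf K).index_ne_zero_of_finite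
  have e4 : 0 < Nat.card H := Nat.card_pos
  have e5 : H.relIndex K = 2 := by
    have : H.relIndex K ≤ 2 := Nat.le_of_mul_le_mul_left (by rw [e1, mul_comm]; exact e) e4
    omega
  exact (mul_mem_iff_of_index_two (H := H.subgroupOf K) e5 (a := ⟨a, ha⟩) (b := ⟨b, hb⟩)).2
    (iff_of_false h1 h2)⟩

theorem I2.cm {D E K : Subgroup G} {a : G} (h : I2 D E) (hD : K ≤ Nm D) (hE : K ≤ Nm E)
    (hc : ∀ b ∈ K, b * a * b⁻¹ * a⁻¹ ∈ E) : I2 (K ⊓ cm D a) K :=
  ⟨inf_le_left, fun b hb c hc' h1 h2 => ⟨mul_mem hb hc', hD (mul_mem hb hc'), by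
    have := h.mul _ (conj_mem_of_norm (hE hb) (hc c hc')) _ (hc b hb)
      (fun e => h2 ⟨hc', hD hc', by simpa [mul_assoc] using conj_mem_of_norm' (hD hb) e⟩)
      fun e => h1 ⟨hb, hD hb, e⟩
    convert this using 1; group⟩⟩

theorem i2_bot {t : G} (h : t * t = 1) : I2 ⊥ (zpowers t) :=
  ⟨bot_le, fun a ha b hb h1 h2 => by
    rw [(sq_cases h ha).resolve_left h1, (sq_cases h hb).resolve_left h2, h]; exact one_mem _⟩

theorem cm_bot (a : G) : cm ⊥ a = C1 a := by
  ext b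
  rw [mem_cm, mem_C1, mem_bot, mul_inv_eq_one, mul_inv_eq_iff_eq_mul]
  exact and_iff_right (mem_normalizer_iff.2 fun x => by simp)

theorem i2_cent [Finite G] {K : Subgroup G} {t a : G} (h : t * t = 1) (hK : ∀ b ∈ K, b * t = t * b)
    (hc : ∀ b ∈ K, b * a * b⁻¹ * a⁻¹ ∈ zpowers t) : I2 (K ⊓ C1 a) K := by
  rw [← cm_bot]
  exact (i2_bot h).cm (fun b _ => mem_normalizer_iff.2 fun x => by simp)
    (fun b hb => nm_zp (hK b hb)) hc

theorem mem_sup_zp {A : Subgroup G} {e x : G} (hn : e ∈ Nm A) (h2 : e * e ∈ A) :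
    x ∈ A ⊔ zpowers e ↔ x ∈ A ∨ x * e ∈ A := by
  constructor
  · intro hx
    let B : Subgroup G :=
      { carrier := {x | x ∈ A ∨ x * e ∈ A}
        one_mem' := Or.inl (one_mem _)
        mul_mem' := by
          rintro a b (ha | ha) (hb | hb)
          · exact Or.inl (mul_mem ha hb)
          · exact Or.inr (mul_assoc a b e ▸ mul_mem ha hb)
          · refine Or.inr ?_
            have := mul_mem ha (conj_mem_of_norm' hn hb)
            convert this using 1; group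
          · refine Or.inl ?_
            have := mul_mem (mul_mem ha (conj_mem_of_norm' hn hb)) (inv_mem h2)
            convert this using 1; group
        inv_mem' := by
          rintro a (ha | ha)
          · exact Or.inl (inv_mem ha)
          · refine Or.inr ?_
            have := mul_mem (conj_mem_of_norm hn (inv_mem ha)) h2
            convert this using 1; group }
    exact (sup_le (fun a ha => Or.inl ha) (zpowers_le.2 (Or.inr h2)) : _ ≤ B) hx
  · rintro (h | h)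
    · exact mem_sup_left h
    · exact (mul_mem_cancel_right (mem_sup_right (mem_zpowers e))).1 (mem_sup_left h)

theorem i2_sup_zp {A : Subgroup G} {e : G} (hn : e ∈ Nm A) (h2 : e * e ∈ A) :
    I2 A (A ⊔ zpowers e) :=
  ⟨le_sup_left, fun a ha b hb h1 h3 => by
    have := mul_mem (mul_mem (((mem_sup_zp hn h2).1 ha).resolve_left h1)
      (conj_mem_of_norm' hn (((mem_sup_zp hn h2).1 hb).resolve_left h3))) (inv_mem h2)
    convert this using 1; group⟩

theorem card_zp {t : G} (h : t * t = 1) (h1 : t ≠ 1) : Nat.card (zpowers t) = 2 := by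
  rw [Nat.card_zpowers, orderOf_eq_prime (by rw [sq, h]) h1]

theorem pg_zp {t : G} (h : t * t = 1) : IsPGroup 2 (zpowers t) :=
  L3.pgroup_zpowers (k := 1) (by rw [pow_one, sq, h])

/-! ### Fixed points of 3-elements -/

theorem fix_set {w : G} {n : ℕ} (hw : w ^ 3 ^ n = 1) (s : Set G) [Finite s]
    (hs : ∀ x ∈ s, w * x * w⁻¹ ∈ s) :
    Nat.card s ≡ Nat.card {x : s // w * x = x * w} [MOD 3] := by
  classical
  have := Fact.mk Nat.prime_three
  have := Fintype.ofFinite s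
  let f : Function.End s := fun d => ⟨w * d * w⁻¹, hs _ d.2⟩
  have hk : ∀ (k : ℕ) (d : s), ((f ^ k) d : G) = w ^ k * d * (w ^ k)⁻¹ := fun k => by
    induction k with
    | zero => intro d; simp; rfl
    | succ k ih =>
      intro d
      rw [pow_succ']
      change w * ((f ^ k) d : G) * w⁻¹ = _
      rw [ih, pow_succ']; group
  have hf : f ^ 3 ^ n = 1 := by
    funext d
    apply Subtype.ext
    rw [hk, hw]; simp; rfl
  have h1 := Equiv.Perm.card_fixedPoints_modEq hf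
  rw [← Nat.card_eq_fintype_card, ← Nat.card_eq_fintype_card] at h1
  rwa [Nat.card_congr (Equiv.subtypeEquivRight (p := (· ∈ f.fixedPoints))
    (q := fun x : s => w * x = x * w) fun x =>
      ⟨fun e => mul_inv_eq_iff_eq_mul.1 (congrArg Subtype.val e), fun e =>
        Subtype.ext (conj_eq_of_comm e)⟩)] at h1

theorem not_three_dvd [Finite G] {D : Subgroup G} (hD : IsPGroup 2 D) : ¬ 3 ∣ Nat.card D := by
  obtain ⟨k, hk⟩ := hD.exists_card_eq
  rw [hk]
  exact fun h => by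
    have := Nat.prime_three.dvd_of_dvd_pow h
    omega

/-- An invariant coset of a 2-group contains a fixed point. -/
theorem fix_coset [Finite G] {w a : G} {n : ℕ} (hw : w ^ 3 ^ n = 1) {D : Subgroup G}
    (hD : IsPGroup 2 D) (h : w ∈ cm D a) : ∃ x, x * a⁻¹ ∈ D ∧ w * x = x * w := by
  have h1 := fix_set hw {x | x * a⁻¹ ∈ D} fun x hx => by
    have := mul_mem (conj_mem_of_norm h.1 hx) h.2
    change _ ∈ D
    convert this using 1; group
  have h2 : Nat.card {x | x * a⁻¹ ∈ D} = Nat.card D :=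
    Nat.card_congr ((Equiv.mulRight a⁻¹).subtypeEquiv fun _ => Iff.rfl)
  by_contra hc
  have : IsEmpty {x : {x | x * a⁻¹ ∈ D} // w * x = x * w} := ⟨fun x => hc ⟨x.1, x.1.2, x.2⟩⟩
  rw [h2, Nat.card_of_isEmpty (α := {x : {x | x * a⁻¹ ∈ D} // w * x = x * w})] at h1
  exact not_three_dvd hD ((Nat.modEq_zero_iff_dvd).1 h1)

theorem card_modEq [Finite G] {w : G} {n : ℕ} (hw : w ^ 3 ^ n = 1) {R : Subgroup G}
    (h : w ∈ Nm R) : Nat.card R ≡ Nat.card ↥(R ⊓ C1 w) [MOD 3] := by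
  refine (fix_set hw R fun x hx => conj_mem_of_norm h hx).trans (by
    rw [Nat.card_congr (β := ↥(R ⊓ C1 w))
      ⟨fun x => ⟨x.1, x.1.2, mem_C1.2 x.2.symm⟩, fun x => ⟨⟨x, x.2.1⟩, (mem_C1.1 x.2.2).symm⟩,
        fun _ => rfl, fun _ => rfl⟩])

/-- The 3-part of an element. -/
theorem three_part [Finite G] {h : G} (e : 3 ∣ orderOf h) :
    ∃ m n : ℕ, ¬ 3 ∣ m ∧ h ^ m ≠ 1 ∧ (h ^ m) ^ 3 ^ n = 1 := by
  obtain ⟨n, m, h1, h2⟩ := Nat.exists_eq_pow_mul_and_not_dvd (orderOf_pos h).ne' 3 (by norm_num)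
  refine ⟨m, n, h1, fun c => h1 (e.trans (orderOf_dvd_of_pow_eq_one c)), ?_⟩
  rw [← pow_mul, mul_comm, ← h2, pow_orderOf_eq_one]

end Cfsg.Lib.SC6
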