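import Cfsg.Agent.Ord6.Loc

/-! The normal elementary abelian subgroup of order eight. -/

set_option autoImplicit false

namespace Cfsg.Lib.SC6

open Subgroup Cfsg.Lib.Trans
open Cfsg.Lib.Odd3 (conj_mem_of_norm conj_mem_of_norm' mem_norm_of_conj)
open Cfsg.Lib.L3 (sq_cases cube_cases)

variable {G : Type*} [Group G] [Finite G]

/-- The four-group generated by two commuting involutions. -/
def VV (t d : G) : Subgroup G := zpowers t ⊔ zpowers d

/-- The invariant closure of `VV t d`. -/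
def UU (t y d : G) : Subgroup G := VV t d ⊔ zpowers (y * d * y⁻¹)

/-- The centraliser of `UU t y d` in `R`. -/
def II (R : Subgroup G) (y d : G) : Subgroup G := R ⊓ C1 d ⊓ C1 (y * d * y⁻¹)

omit [Finite G] in
theorem tV (t d : G) : t ∈ VV t d := mem_sup_left (mem_zpowers t)

omit [Finite G] in
theorem dV (t d : G) : d ∈ VV t d := mem_sup_right (mem_zpowers d)

omit [Finite G] in
theorem zpV (t d : G) : zpowers t ≤ VV t d := le_sup_left

omit [Finite G] in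
theorem VU (t y d : G) : VV t d ≤ UU t y d := le_sup_left

omit [Finite G] in
theorem zpU (t y d : G) : zpowers t ≤ UU t y d := (zpV t d).trans (VU t y d)

omit [Finite G] in
theorem eU (t y d : G) : y * d * y⁻¹ ∈ UU t y d := mem_sup_right (mem_zpowers _)

omit [Finite G] in
theorem V_le {t d : G} {H : Subgroup G} (h1 : t ∈ H) (h2 : d ∈ H) : VV t d ≤ H :=
  sup_le (zpowers_le.2 h1) (zpowers_le.2 h2)

omit [Finite G] in
theorem U_le {t y d : G} {H : Subgroup G} (h1 : t ∈ H) (h2 : d ∈ H) (h3 : y * d * y⁻¹ ∈ H) :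
    UU t y d ≤ H := sup_le (V_le h1 h2) (zpowers_le.2 h3)

theorem mem_V {t d x : G} (h : d * t = t * d) (d2 : d * d = 1) :
    x ∈ VV t d ↔ x ∈ zpowers t ∨ x * d ∈ zpowers t :=
  mem_sup_zp (nm_zp h) (d2 ▸ one_mem _)

theorem i2V {t d : G} (h : d * t = t * d) (d2 : d * d = 1) : I2 (zpowers t) (VV t d) :=
  i2_sup_zp (nm_zp h) (d2 ▸ one_mem _)

theorem V_cases {t d x : G} (h : d * t = t * d) (t2 : t * t = 1) (d2 : d * d = 1)
    (hx : x ∈ VV t d) : x = 1 ∨ x = t ∨ x = d ∨ x = t * d := by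
  rcases (mem_V h d2).1 hx with e | e <;> rcases sq_cases t2 e with e | e
  · exact Or.inl e
  · exact Or.inr (Or.inl e)
  · exact Or.inr (Or.inr (Or.inl (by
      rw [eq_inv_of_mul_eq_one_left e, inv_eq_of_mul_eq_one_right d2])))
  · exact Or.inr (Or.inr (Or.inr (by rw [← e, mul_assoc, d2, mul_one])))

omit [Finite G] in
theorem nm_of_comm {D A R : Subgroup G} [Finite G] (hD : D ≤ A)
    (h : ∀ u ∈ A, ∀ a ∈ R, a * u * a⁻¹ * u⁻¹ ∈ D) : R ≤ Nm A := fun a ha =>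
  mem_norm_of_conj fun u hu => (A.mul_mem_cancel_right (inv_mem hu)).1 (hD (h u hu a ha))

/-- An involution `d` that is central modulo `t`. -/
structure Cf (t y d : G) (R : Subgroup G) : Prop extends Loc t y R where
  zc : om R ≤ zpowers t
  dR : d ∈ R
  d2 : d * d = 1
  dt : d ∉ zpowers t
  dc : ∀ a ∈ R, a * d * a⁻¹ * d⁻¹ ∈ zpowers t

namespace Cf
variable {t y d : G} {R : Subgroup G} (h : Cf t y d R)
include h

theorem conj : Cf t y (y * d * y⁻¹) R :=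
  ⟨h.toLoc, h.zc, h.fp.conj h.dR, conj_sq h.d2,
    fun c => h.dt (by simpa [mul_assoc] using conj_mem_of_norm' h.fp.yD c),
    fun c hc => comm_symm (h.fp.cc hc h.dR (comm_symm (h.dc c hc)))⟩

omit [Finite G] in
theorem td : d * t = t * d := h.cen d h.dR

theorem de : d * (y * d * y⁻¹) = y * d * y⁻¹ * d := h.toLoc.invol h.dR h.d2

theorem VR : VV t d ≤ R := V_le h.toLoc.tR h.dR

theorem UR : UU t y d ≤ R := U_le h.toLoc.tR h.dR h.conj.dR

theorem Uc {u a : G} (hu : u ∈ UU t y d) (ha : a ∈ R) : a * u * a⁻¹ * u⁻¹ ∈ zpowers t :=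
  comm_symm (U_le (H := cm (zpowers t) a) ⟨nm_zp rfl, comm_mem_of_eq (h.cen a ha).symm⟩
    ⟨nm_zp h.td, comm_symm (h.dc a ha)⟩ ⟨nm_zp h.conj.td, comm_symm (h.conj.dc a ha)⟩ hu).2

theorem nU : R ≤ Nm (UU t y d) := nm_of_comm (zpU t y d) fun _ hu _ ha => h.Uc hu ha

theorem nV : R ≤ Nm (VV t d) := nm_of_comm (zpV t d) fun _ hu _ ha => h.Uc (VU t y d hu) ha

theorem U_om : UU t y d ≤ om (II R y d) :=
  U_le ⟨⟨⟨h.toLoc.tR, mem_C1.2 h.td.symm⟩, mem_C1.2 h.conj.td.symm⟩, h.t2,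
      fun a ha => h.cen a ha.1.1⟩
    ⟨⟨⟨h.dR, mem_C1.2 rfl⟩, mem_C1.2 h.de⟩, h.d2, fun _ ha => mem_C1.1 ha.1.2⟩
    ⟨⟨⟨h.conj.dR, mem_C1.2 h.de.symm⟩, mem_C1.2 rfl⟩, h.conj.d2, fun _ ha => mem_C1.1 ha.2⟩

theorem UI : UU t y d ≤ II R y d := h.U_om.trans (om_le _)

theorem V_om : VV t d ≤ om (R ⊓ C1 d) :=
  V_le ⟨⟨h.toLoc.tR, mem_C1.2 h.td.symm⟩, h.t2, fun a ha => h.cen a ha.1⟩
    ⟨⟨h.dR, mem_C1.2 rfl⟩, h.d2, fun _ ha => mem_C1.1 ha.2⟩

theorem yU : y ∈ Nm (UU t y d) := mem_norm_of_conj fun u hu =>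
  mem_cj_inv.1 (U_le (H := cj y⁻¹ (UU t y d))
    (mem_cj_inv.2 (by rw [conj_eq_of_comm h.yt]; exact VU t y d (tV t d)))
    (mem_cj_inv.2 (eU t y d)) (mem_cj_inv.2 (by
      rw [yy h.fp.y3]
      exact (mul_mem_cancel_left (mul_mem (VU t y d (dV t d)) (eU t y d))).1
        (zpU t y d (h.fp.norm h.dR)))) hu)

theorem conj_mem_II {g a : G} (h1 : g ∈ Nm R) (h2 : g ∈ Nm (UU t y d)) (ha : a ∈ II R y d) :
    g * a * g⁻¹ ∈ II R y d := by
  have key : ∀ u ∈ UU t y d, g * a * g⁻¹ ∈ C1 u := fun u hu => mem_C1.2 (by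
    have := conj_comm (g := g) ((h.U_om (conj_mem_of_norm' h2 hu)).2.2 a ha)
    simpa [mul_assoc] using this)
  exact ⟨⟨conj_mem_of_norm h1 ha.1.1, key _ (VU t y d (dV t d))⟩, key _ (eU t y d)⟩

theorem yI : y ∈ Nm (II R y d) := mem_norm_of_conj fun _ ha => h.conj_mem_II h.fp.yR h.yU ha

omit h in
theorem IR : II R y d ≤ R := inf_le_left.trans inf_le_left

theorem nI : R ≤ Nm (II R y d) := fun _ hg =>
  mem_norm_of_conj fun _ ha => h.conj_mem_II (nm_self hg) (h.nU hg) ha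

theorem eV : y * d * y⁻¹ ∉ VV t d := fun c => by
  rcases (mem_V h.td h.d2).1 c with e | e
  · exact h.conj.dt e
  · exact h.dt (h.fp.fpf d h.dR (by rwa [inv_eq_of_mul_eq_one_right h.d2]))

theorem enV : y * d * y⁻¹ ∈ Nm (VV t d) := h.nV h.conj.dR

theorem mem_U {x : G} : x ∈ UU t y d ↔ x ∈ VV t d ∨ x * (y * d * y⁻¹) ∈ VV t d :=
  mem_sup_zp h.enV (h.conj.d2 ▸ one_mem _)

theorem i2U : I2 (VV t d) (UU t y d) := i2_sup_zp h.enV (h.conj.d2 ▸ one_mem _)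

theorem cardV : Nat.card (VV t d) = 4 := by
  rw [(i2V h.td h.d2).card (dV t d) h.dt, card_zp h.t2 h.t1]

theorem cardU : Nat.card (UU t y d) = 8 := by
  rw [h.i2U.card (eU t y d) h.eV, h.cardV]

theorem i2R : I2 (R ⊓ C1 d) R := i2_cent h.t2 h.cen h.dc

theorem i2I : I2 (II R y d) (R ⊓ C1 d) :=
  i2_cent h.t2 (fun c hc => h.cen c hc.1) fun c hc => h.conj.dc c hc.1

omit [Finite G] in
theorem exR : ∃ r ∈ R, r ∉ C1 d := by
  by_contra! c
  exact h.dt (h.zc ⟨h.dR, h.d2, fun a ha => mem_C1.1 (c a ha)⟩)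

theorem l3 : om (R ⊓ C1 d) ≤ VV t d := fun z hz => by
  obtain ⟨r, hr, r1⟩ := h.exR
  have h1 := h.fp.idx hz.1.1 h.i2R (fun b hb => comm_mem_of_eq (hz.2.2 b hb)) r hr
  have key : ∀ z ∈ om (R ⊓ C1 d), r * z = z * r → z ∈ zpowers t := fun z hz e =>
    h.zc ⟨hz.1.1, hz.2.1, fun a ha => mem_C1.1 (h.i2R.le_of (L := C1 z) hr (fun c => r1 c.2)
      (fun b hb => mem_C1.2 (hz.2.2 b hb)) (mem_C1.2 e) ha)⟩
  rcases h.toLoc.conj_cases h1 with e | e
  · exact zpV t d (key z hz e)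
  · refine (mem_V h.td h.d2).2 (Or.inr (key _ (mul_mem hz (h.V_om (dV t d))) ?_))
    have e1 := (h.toLoc.conj_cases (h.dc r hr)).resolve_left fun c => r1 (mem_C1.2 c)
    refine mul_inv_eq_iff_eq_mul.1 ?_
    calc _ = r * z * r⁻¹ * (r * d * r⁻¹) := by group
      _ = t * (z * t) * d := by rw [e, e1]; group
      _ = _ := by rw [h.cen z hz.1.1, ← mul_assoc, h.t2, one_mul]

theorem exI : ∃ r ∈ R ⊓ C1 d, r ∉ II R y d := by
  by_contra! c
  exact h.eV (h.l3 ⟨⟨h.conj.dR, mem_C1.2 h.de.symm⟩, h.conj.d2, fun a ha => mem_C1.1 (c a ha).2⟩)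

theorem li {a : G} (ha : a ∈ R) (e : ∀ r ∈ II R y d, r * a * r⁻¹ * a⁻¹ ∈ VV t d) :
    ∀ r ∈ II R y d, r * a * r⁻¹ * a⁻¹ ∈ zpowers t :=
  h.fp.core_cm ha IR h.yI ((i2V h.td h.d2).cm (IR.trans h.fp.nD) (IR.trans h.nV) e)

theorem k1 : om (II R y d) ≤ UU t y d := by
  obtain ⟨r, hr, r1⟩ := h.exI
  have key : ∀ z ∈ om (II R y d), r * z = z * r → z ∈ VV t d := fun z hz e =>
    h.l3 ⟨hz.1.1, hz.2.1, fun a ha => mem_C1.1 (h.i2I.le_of (L := C1 z) hr r1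
      (fun b hb => mem_C1.2 (hz.2.2 b hb)) (mem_C1.2 e) ha)⟩
  have s1 : ∀ z ∈ om (II R y d), r * z * r⁻¹ * z⁻¹ ∈ zpowers t → z ∈ UU t y d := fun z hz e => by
    rcases h.toLoc.conj_cases e with e | e
    · exact VU t y d (key z hz e)
    · refine h.mem_U.2 (Or.inr (key _ (mul_mem hz (h.U_om (eU t y d))) ?_))
      have e1 := (h.toLoc.conj_cases (h.conj.dc r hr.1)).resolve_left
        fun c => r1 ⟨hr, mem_C1.2 c⟩
      refine mul_inv_eq_iff_eq_mul.1 ?_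
      calc _ = r * z * r⁻¹ * (r * (y * d * y⁻¹) * r⁻¹) := by group
        _ = t * (z * t) * (y * d * y⁻¹) := by rw [e, e1]; group
        _ = _ := by rw [h.cen z (IR hz.1), ← mul_assoc t, h.t2, one_mul]
  have s2 : ∀ z ∈ om (II R y d), r * z * r⁻¹ * z⁻¹ ∈ VV t d := fun z hz => by
    have h1 := conj_mem_om (h.nI hr.1) hz
    refine key _ (mul_mem h1 (inv_mem hz)) (mul_inv_eq_iff_eq_mul.1 ?_)
    calc _ = r * r * z * (r * r)⁻¹ * (r * z * r⁻¹)⁻¹ := by group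
      _ = _ := by
        rw [conj_eq_of_comm (hz.2.2 _ (h.i2I.sq hr)), inv_eq_of_mul_eq_one_right h1.2.1,
          inv_eq_of_mul_eq_one_right hz.2.1, hz.2.2 _ h1.1]
  refine h.fp.core ((om_le _).trans IR) (nm_om _ h.yI) (fun a _ ha => conj_mem_of_norm h.yU ha)
    (zpU t y d) fun a ha b hb h1 h2 => s1 _ (mul_mem ha hb) ?_
  have := (i2V h.td h.d2).mul _ (s2 a ha) _ (conj_mem_of_norm (h.nV (IR ha.1)) (s2 b hb))
    (fun c => h1 (s1 a ha c)) fun c => h2 (s1 b hb (by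
      simpa [mul_assoc] using conj_mem_of_norm' (h.fp.nD (IR ha.1)) c))
  convert this using 1; group

end Cf

end Cfsg.Lib.SC6
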