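import Cfsg.Agent.Ord6.Cf
import Cfsg.Agent.S0215

/-! Groups with one class of involutions and a self-centralising element of order six. -/

set_option autoImplicit false

namespace Cfsg.Lib.SC6

open Subgroup Cfsg.Lib.Trans
open Cfsg.Lib.Odd3 (conj_mem_of_norm conj_mem_of_norm' mem_norm_of_conj)
open Cfsg.Lib.L3 (sq_cases cube_cases)

variable {G : Type*} [Group G] [Finite G]

theorem exists_om {S : Subgroup G} (hS : IsPGroup 2 S) (h : S ≠ ⊥) : ∃ u ∈ om S, u ≠ 1 := by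
  have := Fact.mk Nat.prime_two
  obtain ⟨a, a1, a2, -, a3, a4⟩ := Solv.PG.exists_step_elt (p := 2) (M := ⊥) hS hS
    (fun b _ => mem_normalizer_iff.2 fun x => by simp) le_normalizer (bot_lt_iff_ne_bot.2 h)
  exact ⟨a, ⟨a1, sq a ▸ a3, fun b hb => (eq_of_comm_one (a4 b (mem_sup_left hb))).symm⟩, a2⟩

theorem eq_one_of_mem_two {S : Subgroup G} (hS : IsPGroup 2 S) {g : G} (hg : g ∈ S)
    (h : g ^ 3 = 1) : g = 1 := by
  by_contra e
  have := Fact.mk Nat.prime_three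
  exact not_three_dvd hS (orderOf_eq_prime h e ▸ S.orderOf_dvd_natCard hg)

theorem fix_of_card {w : G} {n : ℕ} (hw : w ^ 3 ^ n = 1) {R : Subgroup G} (h : w ∈ Nm R)
    (e : Nat.card R % 3 = 2) : ∃ a ∈ R, a ≠ 1 ∧ w * a = a * w := by
  by_contra! c
  have h1 := card_modEq hw h
  have h2 : R ⊓ C1 w = ⊥ := eq_bot_iff.2 fun a ha => by
    by_contra b
    exact c a ha.1 b (mem_C1.1 ha.2).symm
  rw [h2, card_bot, Nat.ModEq, e] at h1
  omega

/-- The hypothesis: `t * y` is self-centralising and all involutions are conjugate. -/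
structure H6 (t y : G) : Prop where
  t2 : t * t = 1
  t1 : t ≠ 1
  y3 : y ^ 3 = 1
  y1 : y ≠ 1
  yt : y * t = t * y
  cent : ∀ g, g * t = t * g → g * y = y * g →
    g ∈ zpowers t ∨ g * y⁻¹ ∈ zpowers t ∨ g * y ∈ zpowers t
  conj : ∀ u, u * u = 1 → u ≠ 1 → ∃ g, g * t * g⁻¹ = u

namespace H6
variable {t y : G} (h : H6 t y)
include h

omit [Finite G] in
theorem inv : H6 t y⁻¹ :=
  ⟨h.t2, h.t1, by rw [inv_pow, h.y3, inv_one], inv_ne_one.2 h.y1, (Commute.inv_left h.yt :),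
    fun g h1 h2 => by
      rw [inv_inv]
      have : g * y = y * g := by simpa using (Commute.inv_right (a := g) h2).eq
      exact (h.cent g h1 this).imp_right Or.symm, h.conj⟩

omit [Finite G] in
theorem cj (k : G) : H6 (k * t * k⁻¹) (k * y * k⁻¹) :=
  ⟨conj_sq h.t2, conj_ne_one h.t1, by rw [conj_pow, h.y3]; group, conj_ne_one h.y1,
    conj_comm h.yt, fun g h1 h2 => by
      rw [← cj_zpowers]
      refine (h.cent (k⁻¹ * g * k) (by simpa [mul_assoc] using conj_comm (g := k⁻¹) h1)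
        (by simpa [mul_assoc] using conj_comm (g := k⁻¹) h2)).imp mem_cj.2
        (Or.imp (fun e => mem_cj.2 ?_) fun e => mem_cj.2 ?_) <;> simpa [mul_assoc] using e,
    fun u h1 h2 => by
      obtain ⟨g, rfl⟩ := h.conj u h1 h2
      exact ⟨g * k⁻¹, by group⟩⟩

omit [Finite G] in
theorem three {g : G} {n : ℕ} (h1 : g * t = t * g) (h2 : g * y = y * g) (h3 : g ^ 3 ^ n = 1) :
    g ∈ zpowers y := by
  have key : ∀ a : G, a * y = y * a → g * a ∈ zpowers t → a ∈ zpowers y → a ^ 3 = 1 →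
      g * a = a * g → g ∈ zpowers y := fun a _ e2 e3 e4 e5 => by
    rcases sq_cases h.t2 e2 with e | e
    · exact eq_inv_of_mul_eq_one_left e ▸ inv_mem e3
    · refine absurd ?_ h.t1
      have e6 : t ^ 3 ^ (n + 1) = 1 := by
        rw [← e, Commute.mul_pow e5, pow_succ 3, pow_mul g, h3, mul_comm (3 ^ n), pow_mul a, e4]; simp
      exact pow_eq_one_iff_of_coprime (Nat.Coprime.pow_right (n + 1) (by norm_num : Nat.Coprime 2 3))
        |>.1 ⟨by rw [sq, h.t2], e6⟩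
  rcases h.cent g h1 h2 with e | e | e
  · exact key 1 (by simp) (by simpa using e) (one_mem _) (by simp) (by simp)
  · exact key y⁻¹ (by simp) e (inv_mem (mem_zpowers y)) h.inv.y3 (Commute.inv_right h2)
  · exact key y rfl e (mem_zpowers y) h.y3 h2

theorem syl3 : IsSylowIn 3 (zpowers y) (C1 t) := by
  have := Fact.mk Nat.prime_three
  refine isSylowIn_of_maximal (zpowers_le.2 (mem_C1.2 h.yt))
    (L3.pgroup_zpowers (k := 1) (by rw [pow_one, h.y3])) fun Q h1 h2 h3 => ?_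
  have hy := h2 (mem_zpowers y)
  have key : ∀ g ∈ Q, g * y = y * g → g ∈ zpowers y := fun g hg e => by
    obtain ⟨n, hn⟩ := h1 ⟨g, hg⟩
    exact h.three (mem_C1.1 (h3 hg)) e (congrArg Subtype.val hn)
  obtain ⟨a, a1, a2, -, a3, a4⟩ := Solv.PG.exists_step_elt (p := 3) (M := ⊥) h1 h1
    (fun b _ => mem_normalizer_iff.2 fun x => by simp) le_normalizer
    (bot_lt_iff_ne_bot.2 fun e => h.y1 (by rwa [e] at hy))
  have a5 : ∀ b ∈ Q, a * b = b * a := fun b hb => eq_of_comm_one (a4 b (mem_sup_left hb))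
  refine fun g hg => key g hg ?_
  rcases cube_cases h.y3 (key a a1 (a5 y hy)) with e | e | e
  · exact absurd e a2
  · exact e ▸ (a5 g hg).symm
  · have := (Commute.inv_right (a := g) (a5 g hg).symm).eq
    rwa [e, inv_inv] at this

theorem of_comm {u g : G} {n : ℕ} (u2 : u * u = 1) (u1 : u ≠ 1) (g1 : g ≠ 1)
    (g3 : g ^ 3 ^ n = 1) (e : g * u = u * g) : H6 u g := by
  have := Fact.mk Nat.prime_three
  obtain ⟨k, rfl⟩ := h.conj u u2 u1
  obtain ⟨c, c1, c2⟩ := L3.exists_conj_mem (h.cj k).syl3 (mem_C1.2 e) g3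
  have c3 : c⁻¹ * (k * t * k⁻¹) * c⁻¹⁻¹ = k * t * k⁻¹ :=
    conj_eq_of_comm (mem_C1.1 (inv_mem c1))
  rcases cube_cases (h.cj k).y3 c2 with a | a | a
  · exact absurd a (conj_ne_one g1)
  · have := (h.cj k).cj c⁻¹
    rwa [c3, ← a, show c⁻¹ * (c * g * c⁻¹) * c⁻¹⁻¹ = g by group] at this
  · have := (h.cj k).inv.cj c⁻¹
    rwa [c3, ← a, show c⁻¹ * (c * g * c⁻¹) * c⁻¹⁻¹ = g by group] at this

theorem two {R : Subgroup G} (hR : IsPGroup 2 R) {g a b : G} {n : ℕ} (g1 : g ≠ 1)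
    (g3 : g ^ 3 ^ n = 1) (ha : a ∈ R) (hb : b ∈ R) (e1 : g * a = a * g) (e2 : g * b = b * g)
    (a1 : a ≠ 1) (b1 : b ≠ 1) : a = b := by
  have hS : IsPGroup 2 ↥(R ⊓ C1 g) := hR.to_inf_left
  obtain ⟨u, hu, u1⟩ := exists_om hS fun e => a1 (by
    rw [← mem_bot, ← e]; exact ⟨ha, mem_C1.2 e1.symm⟩)
  have h' := h.of_comm hu.2.1 u1 g1 g3 (mem_C1.1 hu.1.2).symm
  have key : ∀ c ∈ R ⊓ C1 g, c ≠ 1 → c = u := fun c hc c1 => by
    rcases h'.cent c (hu.2.2 c hc) (mem_C1.1 hc.2) with e | e | e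
    · exact (sq_cases h'.t2 e).resolve_left c1
    · exact absurd (eq_one_of_mem_two hS (inv_mem_iff.1 ((mul_mem_cancel_left hc).1
        (zpowers_le.2 hu.1 e))) h'.y3) g1
    · exact absurd (eq_one_of_mem_two hS ((mul_mem_cancel_left hc).1
        (zpowers_le.2 hu.1 e)) h'.y3) g1
  rw [key a ⟨ha, mem_C1.2 e1.symm⟩ a1, key b ⟨hb, mem_C1.2 e2.symm⟩ b1]

theorem cube {R : Subgroup G} (hR : IsPGroup 2 R) {g a : G} {n : ℕ} (g3 : g ^ 3 ^ n = 1)
    (ha : a ∈ R) (e : g * a = a * g) (a1 : a ≠ 1) : a * a = 1 ∧ g ^ 3 = 1 ∨ g = 1 := by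
  refine or_iff_not_imp_right.2 fun g1 => ?_
  have a2 : a * a = 1 := mul_eq_one_iff_eq_inv.2 (h.two hR g1 g3 ha (inv_mem ha) e
    (Commute.inv_right e) a1 (inv_ne_one.2 a1))
  exact ⟨a2, (h.of_comm a2 a1 g1 g3 e).y3⟩

/-- Two invariant cosets. -/
theorem kc {R D V : Subgroup G} (hR : IsPGroup 2 R) (h1 : D ≤ R) (h2 : V ≤ D) {g a e : G}
    (hg : 3 ∣ orderOf g) (ha : a ∈ R) (he : e ∈ D) (e1 : e ∉ V) (c1 : g ∈ cm D a)
    (c2 : g ∈ cm V e) : a ∈ D := by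
  obtain ⟨m, n, -, g1, g3⟩ := three_part hg
  obtain ⟨x, x1, x2⟩ := fix_coset g3 (hR.to_le h1) (pow_mem c1 m)
  obtain ⟨z, z1, z2⟩ := fix_coset g3 (hR.to_le (h2.trans h1)) (pow_mem c2 m)
  have z3 : z ∈ D := (D.mul_mem_cancel_right (inv_mem he)).1 (h2 z1)
  refine inv_mem_iff.1 ((D.mul_mem_cancel_left ?_).1 x1)
  by_cases c : x = 1
  · exact c ▸ one_mem _
  · exact h.two hR g1 g3 (h1 z3) ((R.mul_mem_cancel_right (inv_mem ha)).1 (h1 x1)) z2 x2
      (fun c => e1 (by simpa [c] using z1)) c ▸ z3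

theorem loc {R : Subgroup G} (hR : IsPGroup 2 R) (h1 : t ∈ R) (h2 : R ≤ C1 t) (h3 : y ∈ Nm R) :
    Loc t y R :=
  ⟨FP.of_fix hR (zpowers_le.2 h1) (fun a ha => nm_zp (mem_C1.1 (h2 ha))) h3 (nm_zp h.yt) h.y3
    fun a ha e => by
      by_cases c : a = 1
      · exact c ▸ one_mem _
      · exact h.two (n := 1) hR h.y1 (by rw [pow_one, h.y3]) h1 ha h.yt e h.t1 c ▸ mem_zpowers t,
    h.t2, h.t1, fun a ha => mem_C1.1 (h2 ha), h.yt⟩

theorem card_two {R : Subgroup G} (hR : IsPGroup 2 R) {g a : G} {n : ℕ} (g1 : g ≠ 1)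
    (g3 : g ^ 3 ^ n = 1) (hg : g ∈ Nm R) (ha : a ∈ R) (e : g * a = a * g) (a1 : a ≠ 1) :
    Nat.card R % 3 = 2 := by
  have a2 := ((h.cube hR g3 ha e a1).resolve_right g1).1
  have h1 := card_modEq g3 hg
  have h2 : R ⊓ C1 g = zpowers a := le_antisymm (fun b hb => by
    by_cases c : b = 1
    · exact c ▸ one_mem _
    · exact h.two hR g1 g3 ha hb.1 e (mem_C1.1 hb.2).symm a1 c ▸ mem_zpowers a)
    (zpowers_le.2 ⟨ha, mem_C1.2 e.symm⟩)
  rwa [h2, card_zp a2 a1] at h1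

theorem fpf {R : Subgroup G} (hR : IsPGroup 2 R) {g : G} (g1 : g ≠ 1) (g3 : g ^ 3 = 1)
    (hg : g ∈ Nm R) (e : Nat.card R % 3 = 1) : FP g R ⊥ :=
  FP.of_fix hR bot_le (fun b _ => mem_normalizer_iff.2 fun x => by simp) hg
    (mem_normalizer_iff.2 fun x => by simp) g3 fun a ha c => by
      by_contra b
      have := h.card_two (n := 1) hR g1 (by rw [pow_one, g3]) hg ha c b
      omega

theorem syl_top {u : G} (u2 : u * u = 1) (u1 : u ≠ 1) {T : Subgroup G}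
    (hT : IsSylowIn 2 T (C1 u)) : IsSylowIn 2 T ⊤ := by
  have := Fact.mk Nat.prime_two
  obtain ⟨P, hP, h1⟩ := exists_isSylowIn_ge (H := ⊤) (pg_zp h.t2) le_top
  obtain ⟨z, hz, z1⟩ := exists_om hP.isPGroup fun e => h.t1 (by
    rw [← mem_bot, ← e]; exact h1 (mem_zpowers t))
  obtain ⟨k, rfl⟩ := h.conj u u2 u1
  obtain ⟨g, rfl⟩ := h.conj z hz.2.1 z1
  have h2 := hP.cj_of_mem (mem_top (k * g⁻¹))
  refine h2.of_card_ge hT.isPGroup le_top (hT.card_le h2.isPGroup (cj_le_iff.2 fun a ha => ?_))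
  have := conj_comm (g := k * g⁻¹) (hz.2.2 a ha)
  rw [show k * g⁻¹ * (g * t * g⁻¹) * (k * g⁻¹)⁻¹ = k * t * k⁻¹ by group] at this
  exact mem_C1.2 this

theorem zstar [IsSimpleGroup G] (hG : ¬ IsMulCommutative G) {T : Subgroup G}
    (hT : IsSylowIn 2 T ⊤) (ht : t ∈ T) : ∃ z ∈ T, z * z = 1 ∧ z ∉ zpowers t := by
  have := Fact.mk Nat.prime_two
  by_contra! c
  obtain ⟨P, rfl⟩ := hT.exists_sylow_eq
  have o2 : orderOf t = 2 := orderOf_eq_prime (by rw [sq, h.t2]) h.t1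
  obtain ⟨N, hN, h1, h2⟩ := Agent.S0215.result P t o2 ht fun g hg =>
    (sq_cases h.t2 (c _ hg (conj_sq h.t2))).resolve_left (conj_ne_one h.t1)
  rcases hN.eq_bot_or_eq_top with rfl | rfl
  · rcases (inferInstance : (center G).Normal).eq_bot_or_eq_top with e | e
    · refine h.t1 (mem_bot.1 (e ▸ mem_center_iff.2 fun g => (eq_of_comm_one (h2 g)).symm))
    · exact hG ⟨⟨fun a b => (mem_center_iff.1 (e ▸ mem_top b : b ∈ center G) a)⟩⟩
  · rw [card_top] at h1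
    exact h1.not_two_dvd_nat (o2 ▸ orderOf_dvd_natCard t)

end H6

end Cfsg.Lib.SC6
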