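import Cfsg.Agent.Ord6.Basic

/-! A 2-group with an automorphism of order three that is fixed-point-free modulo a normal
subgroup. -/

set_option autoImplicit false

namespace Cfsg.Lib.SC6

open Subgroup Cfsg.Lib.Trans
open Cfsg.Lib.Odd3 (conj_mem_of_norm conj_mem_of_norm' mem_norm_of_conj)
open Cfsg.Lib.L3 (sq_cases cube_cases)

variable {G : Type*} [Group G] [Finite G]

/-- `y` acts on the 2-group `R`, without fixed points on `R / D`. -/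
structure FP (y : G) (R D : Subgroup G) : Prop where
  pg : IsPGroup 2 R
  le : D ≤ R
  nD : R ≤ Nm D
  yR : y ∈ Nm R
  yD : y ∈ Nm D
  y3 : y ^ 3 = 1
  fpf : ∀ a ∈ R, y * a * y⁻¹ * a⁻¹ ∈ D → a ∈ D

theorem FP.of_fix {y : G} {R D : Subgroup G} (pg : IsPGroup 2 R) (le : D ≤ R) (nD : R ≤ Nm D)
    (yR : y ∈ Nm R) (yD : y ∈ Nm D) (y3 : y ^ 3 = 1) (h : ∀ a ∈ R, y * a = a * y → a ∈ D) :
    FP y R D :=
  ⟨pg, le, nD, yR, yD, y3, fun a ha e => by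
    obtain ⟨x, h1, h2⟩ := fix_coset (n := 1) (by rw [pow_one, y3]) (pg.to_le le) ⟨yD, e⟩
    have := h x ((R.mul_mem_cancel_right (inv_mem ha)).1 (le h1)) h2
    exact D.inv_mem_iff.1 ((D.mul_mem_cancel_left this).1 h1)⟩

omit [Finite G] in
theorem yy {y : G} (h : y ^ 3 = 1) (a : G) : y * (y * a * y⁻¹) * y⁻¹ = y⁻¹ * a * y := by
  calc _ = y⁻¹ * y ^ 3 * a * (y ^ 3)⁻¹ * y := by rw [pow_three']; group
    _ = _ := by rw [h]; group

namespace FP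
variable {y : G} {R D : Subgroup G} (h : FP y R D)
include h

theorem quot : ∃ (_ : (D.subgroupOf R).Normal) (a : MulAut (R ⧸ D.subgroupOf R)), Rank2.Fpf3 a ∧
    ∀ r : R, a r = (⟨y * r * y⁻¹, conj_mem_of_norm h.yR r.2⟩ : R) := by
  have hN : (D.subgroupOf R).Normal := ⟨fun a ha g => conj_mem_of_norm (A := D) (h.nD g.2) ha⟩
  let e : R ≃* R := normalizerMonoidHom R ⟨y, h.yR⟩
  have he : (D.subgroupOf R).map (e : R →* R) = D.subgroupOf R := by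
    ext r
    constructor
    · rintro ⟨x, hx, rfl⟩
      exact conj_mem_of_norm h.yD hx
    · intro hr
      exact ⟨⟨y⁻¹ * r * y, conj_mem_of_norm' h.yR r.2⟩, conj_mem_of_norm' h.yD hr,
        Subtype.ext (by change y * (y⁻¹ * r * y) * y⁻¹ = r; group)⟩
  have ha : ∀ r : R, QuotientGroup.congr _ _ e he r =
      (⟨y * r * y⁻¹, conj_mem_of_norm h.yR r.2⟩ : R) := fun r => rfl
  refine ⟨hN, QuotientGroup.congr _ _ e he, ⟨h.pg.to_quotient _, fun x => ?_, fun x hx => ?_⟩, ha⟩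
  · obtain ⟨x, rfl⟩ := QuotientGroup.mk_surjective x
    rw [ha, ha, ha]
    congr 1
    apply Subtype.ext
    change y * (y * (y * x * y⁻¹) * y⁻¹) * y⁻¹ = x
    rw [yy h.y3]; group
  · obtain ⟨x, rfl⟩ := QuotientGroup.mk_surjective x
    rw [ha, ← mul_inv_eq_one, ← QuotientGroup.mk_inv, ← QuotientGroup.mk_mul,
      QuotientGroup.eq_one_iff] at hx
    exact (QuotientGroup.eq_one_iff x).2 (h.fpf x x.2 hx)

theorem norm {a : G} (ha : a ∈ R) : a * (y * a * y⁻¹) * (y⁻¹ * a * y) ∈ D := by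
  obtain ⟨_, f, h1, h2⟩ := h.quot
  have := h1.norm (⟨a, ha⟩ : R)
  rw [h2, h2, ← QuotientGroup.mk_mul, ← QuotientGroup.mk_mul, QuotientGroup.eq_one_iff] at this
  rw [← yy h.y3]
  exact this

theorem cc {a b : G} (ha : a ∈ R) (hb : b ∈ R) (e : b * a * b⁻¹ * a⁻¹ ∈ D) :
    y * b * y⁻¹ * a * (y * b * y⁻¹)⁻¹ * a⁻¹ ∈ D := by
  obtain ⟨_, f, h1, h2⟩ := h.quot
  have key : ∀ a b : R, Commute (b : R ⧸ D.subgroupOf R) a ↔ (b : G) * a * (b : G)⁻¹ * (a : G)⁻¹ ∈ D :=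
    fun a b => by
      rw [← commutatorElement_eq_one_iff_commute, commutatorElement_def, ← QuotientGroup.mk_inv,
        ← QuotientGroup.mk_inv, ← QuotientGroup.mk_mul, ← QuotientGroup.mk_mul,
        ← QuotientGroup.mk_mul, QuotientGroup.eq_one_iff]
      rfl
  have := h1.commute_left ((key ⟨a, ha⟩ ⟨b, hb⟩).2 e)
  rw [h2] at this
  exact (key _ _).1 this

theorem conj {a : G} (ha : a ∈ R) : y * a * y⁻¹ ∈ R := conj_mem_of_norm h.yR ha

theorem conj' {a : G} (ha : a ∈ R) : y⁻¹ * a * y ∈ R := conj_mem_of_norm' h.yR ha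

/-- An invariant subgroup of index at most two is everything. -/
theorem core {S H : Subgroup G} (hS : S ≤ R) (yS : y ∈ Nm S)
    (hH : ∀ a ∈ S, a ∈ H → y * a * y⁻¹ ∈ H) (hD : D ≤ H)
    (h2 : ∀ a ∈ S, ∀ b ∈ S, a ∉ H → b ∉ H → a * b ∈ H) : S ≤ H := fun r hr => by
  by_contra e
  have e2 : y⁻¹ * r * y ∉ H := fun c => e (by
    simpa [mul_assoc] using hH _ (conj_mem_of_norm' yS hr) c)
  have e1 : y * r * y⁻¹ ∉ H := fun c => e2 (yy h.y3 r ▸ hH _ (conj_mem_of_norm yS hr) c)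
  exact e2 ((H.mul_mem_cancel_left (h2 r hr _ (conj_mem_of_norm yS hr) e e1)).1
    (hD (h.norm (hS hr))))

theorem core_cm {S : Subgroup G} {a : G} (ha : a ∈ R) (hS : S ≤ R) (yS : y ∈ Nm S)
    (h2 : I2 (S ⊓ cm D a) S) : ∀ b ∈ S, b * a * b⁻¹ * a⁻¹ ∈ D := fun b hb =>
  (h.core hS yS (H := cm D a) (fun b hb e => ⟨h.nD (h.conj (hS hb)), h.cc ha (hS hb) e.2⟩)
    (fun d hd => ⟨nm_self hd, by
      have := mul_mem hd (conj_mem_of_norm (h.nD ha) (inv_mem hd))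
      convert this using 1; group⟩)
    (fun b hb c hc h3 h4 => (h2.mul b hb c hc (fun e => h3 e.2) fun e => h4 e.2).2) hb).2

theorem idx {H : Subgroup G} {a : G} (ha : a ∈ R) (h2 : I2 H R)
    (e : ∀ b ∈ H, b * a * b⁻¹ * a⁻¹ ∈ D) : ∀ b ∈ R, b * a * b⁻¹ * a⁻¹ ∈ D :=
  h.core_cm ha le_rfl h.yR (h2.mono (fun b hb => ⟨h2.le hb, h.nD (h2.le hb), e b hb⟩) inf_le_left)

theorem mono {E : Subgroup G} (h1 : D ≤ E) (h2 : E ≤ R) (h3 : R ≤ Nm E) (h4 : y ∈ Nm E) :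
    FP y R E :=
  FP.of_fix h.pg h2 h3 h.yR h4 h.y3 fun a ha e => h1 (h.fpf a ha (comm_mem_of_eq e))

theorem sub {S : Subgroup G} (h1 : D ≤ S) (h2 : S ≤ R) (h4 : y ∈ Nm S) : FP y S D :=
  ⟨h.pg.to_le h2, h1, h2.trans h.nD, h4, h.yD, h.y3, fun a ha => h.fpf a (h2 ha)⟩

end FP

/-- `y` acts on `R` fixing only the central involution `t`. -/
structure Loc (t y : G) (R : Subgroup G) : Prop where
  fp : FP y R (zpowers t)
  t2 : t * t = 1
  t1 : t ≠ 1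
  cen : ∀ a ∈ R, a * t = t * a
  yt : y * t = t * y

namespace Loc
variable {t y : G} {R : Subgroup G} (h : Loc t y R)
include h

theorem tR : t ∈ R := h.fp.le (mem_zpowers t)

theorem t_inv : t⁻¹ = t := inv_eq_of_mul_eq_one_right h.t2

theorem sub {S : Subgroup G} (h1 : t ∈ S) (h2 : S ≤ R) (h4 : y ∈ Nm S) : Loc t y S :=
  ⟨h.fp.sub (zpowers_le.2 h1) h2 h4, h.t2, h.t1, fun a ha => h.cen a (h2 ha), h.yt⟩

theorem zp_om : zpowers t ≤ om R := zpowers_le.2 ⟨h.tR, h.t2, h.cen⟩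

theorem invol {a : G} (ha : a ∈ R) (h2 : a * a = 1) : a * (y * a * y⁻¹) = y * a * y⁻¹ * a := by
  have h3 := h.zp_om (h.fp.norm ha)
  have h4 : y⁻¹ * a * y * (y⁻¹ * a * y) = 1 := by simpa using conj_sq (g := y⁻¹) h2
  have h5 := h3.2.2 _ (h.fp.conj' ha)
  have h6 : a * (y * a * y⁻¹) * (a * (y * a * y⁻¹)) = 1 := by
    calc _ = a * (y * a * y⁻¹) * (y⁻¹ * a * y) * (y⁻¹ * a * y) *
          (a * (y * a * y⁻¹) * (y⁻¹ * a * y)) * (y⁻¹ * a * y)⁻¹ * 1 := by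
            rw [mul_assoc _ (y⁻¹ * a * y) (y⁻¹ * a * y), h4]; group
      _ = 1 := by
        rw [mul_assoc _ (y⁻¹ * a * y), h5, ← mul_assoc, h3.2.1]; group
  rw [eq_inv_of_mul_eq_one_left h6, mul_inv_rev, inv_eq_of_mul_eq_one_right h2,
    inv_eq_of_mul_eq_one_right (conj_sq h2)]

omit [Finite G] in
theorem conj_cases {a b : G} (e : b * a * b⁻¹ * a⁻¹ ∈ zpowers t) :
    b * a = a * b ∨ b * a * b⁻¹ = t * a :=
  (sq_cases h.t2 e).imp eq_of_comm_one mul_inv_eq_iff_eq_mul.1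

/-- The case without central involutions modulo `t`. -/
theorem q8 (hd : ∀ d ∈ R, d * d = 1 → (∀ a ∈ R, a * d * a⁻¹ * d⁻¹ ∈ zpowers t) → d ∈ zpowers t) :
    (∀ z ∈ R, z * z = 1 → z ∈ zpowers t) ∧ Nat.card R ≤ 8 := by
  have := Fact.mk Nat.prime_two
  have step : ∀ S ≤ R, zpowers t < S → ∃ a ∈ S, a ∉ zpowers t ∧ a * a ∈ zpowers t ∧
      ∀ b ∈ S, b * a * b⁻¹ * a⁻¹ ∈ zpowers t := fun S h1 h2 => by
    obtain ⟨a, a1, a2, -, a3, a4⟩ := Solv.PG.exists_step_elt (p := 2) (h.fp.pg.to_le h1)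
      (h.fp.pg.to_le h1) (h1.trans h.fp.nD) le_normalizer h2
    exact ⟨a, a1, a2, sq a ▸ a3, fun b hb => comm_symm (a4 b (mem_sup_left hb))⟩
  rcases h.fp.le.eq_or_lt with e | e
  · refine ⟨fun z hz _ => e ▸ hz, ?_⟩
    rw [← e, card_zp h.t2 h.t1]; norm_num
  obtain ⟨a, aR, a1, a2, a3⟩ := step R le_rfl e
  have sq : ∀ a ∈ R, a ∉ zpowers t → a * a ∈ zpowers t →
      (∀ b ∈ R, b * a * b⁻¹ * a⁻¹ ∈ zpowers t) → a * a = t := fun a h1 h2 h3 h4 =>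
    (sq_cases h.t2 h3).resolve_left fun c => h2 (hd a h1 c h4)
  have aa := sq a aR a1 a2 a3
  set b := y * a * y⁻¹ with hb
  have bR : b ∈ R := h.fp.conj aR
  have ytt : y * t * y⁻¹ = t := conj_eq_of_comm h.yt
  have bb : b * b = t := by rw [← ytt, ← aa, hb]; group
  have b3 : ∀ c ∈ R, c * b * c⁻¹ * b⁻¹ ∈ zpowers t := fun c hc =>
    comm_symm (h.fp.cc hc aR (comm_symm (a3 c hc)))
  have ab1 : a * b ∉ zpowers t := fun c => a1 (by
    have := conj_mem_of_norm h.fp.yD (((zpowers t).mul_mem_cancel_left c).1 (h.fp.norm aR))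
    simpa [mul_assoc] using this)
  have ab3 : ∀ c ∈ R, c * (a * b) * c⁻¹ * (a * b)⁻¹ ∈ zpowers t := fun c hc =>
    comm_symm ((cm (zpowers t) c).mul_mem
      ⟨h.fp.nD aR, comm_symm (a3 c hc)⟩ ⟨h.fp.nD bR, comm_symm (b3 c hc)⟩).2
  have ba : b * a * b⁻¹ = t * a := (h.conj_cases (a3 b bR)).resolve_left fun c =>
    ab1 (hd _ (mul_mem aR bR) (by
      calc _ = a * (b * a) * b := by group
        _ = a * a * (b * b) := by rw [c]; group
        _ = 1 := by rw [aa, bb, h.t2]) ab3)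
  have ab : a * b * a⁻¹ = t * b := by
    calc _ = (b * a * b⁻¹ * a⁻¹)⁻¹ * b := by group
      _ = _ := by rw [ba, mul_inv_cancel_right, h.t_inv]
  have abab : a * b * (a * b) = t := by
    calc _ = a * (b * a * b⁻¹) * (b * b) := by group
      _ = t := by rw [ba, bb, ← mul_assoc, h.cen a aR, mul_assoc t, aa, h.t2, one_mul]
  have i1 : I2 (R ⊓ C1 a) R := i2_cent h.t2 h.cen a3
  have i2 : I2 (R ⊓ C1 a ⊓ C1 b) (R ⊓ C1 a) :=
    i2_cent h.t2 (fun c hc => h.cen c hc.1) fun c hc => b3 c hc.1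
  have b1 : b ∉ C1 a := fun c => h.t1 (by
    rw [conj_eq_of_comm (mem_C1.1 c)] at ba; simpa using ba)
  have a4 : a ∉ C1 b := fun c => b1 (mem_C1.2 (mem_C1.1 c).symm)
  have key : R ⊓ C1 a ⊓ C1 b ≤ zpowers t := by
    by_contra c
    obtain ⟨x, ⟨⟨x1, x2⟩, x3⟩, x4, x5, x6⟩ := step (R ⊓ C1 a ⊓ C1 b) (inf_le_left.trans inf_le_left)
      (lt_of_le_not_ge (zpowers_le.2 ⟨⟨h.tR, mem_C1.2 (h.cen a aR).symm⟩,
        mem_C1.2 (h.cen b bR).symm⟩) c)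
    have x7 : ∀ c ∈ R, c * x * c⁻¹ * x⁻¹ ∈ zpowers t := fun c hc =>
      (i1.le_of (L := cm (zpowers t) x) bR (fun e => b1 e.2) (i2.le_of ⟨aR, mem_C1.2 rfl⟩
        (fun e => a4 e.2) (fun c hc => ⟨h.fp.nD hc.1.1, x6 c hc⟩)
        ⟨h.fp.nD aR, comm_mem_of_eq (mem_C1.1 x2).symm⟩)
        ⟨h.fp.nD bR, comm_mem_of_eq (mem_C1.1 x3).symm⟩ hc).2
    have := hd (x * a) (mul_mem x1 aR) (by
      calc _ = x * (a * x) * a := by group
        _ = x * x * (a * a) := by rw [← mem_C1.1 x2]; group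
        _ = 1 := by rw [aa, sq x x1 x4 x5 x7, h.t2]) fun c hc =>
      comm_symm ((cm (zpowers t) c).mul_mem
        ⟨h.fp.nD x1, comm_symm (x7 c hc)⟩ ⟨h.fp.nD aR, comm_symm (a3 c hc)⟩).2
    exact a4 (((C1 b).mul_mem_cancel_left x3).1 (mem_C1.2 ((h.zp_om this).2.2 b bR).symm))
  refine ⟨fun z hz z2 => ?_, ?_⟩
  · have fin : ∀ c ∈ R, c * c = t → z * c⁻¹ ∉ zpowers t := fun c hc c2 e => h.t1 (by
      obtain ⟨-, e1, e2⟩ := h.zp_om e
      calc t = z * c⁻¹ * (z * c⁻¹) * (c * c) := by rw [e1, c2, one_mul]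
        _ = z * c⁻¹ * (z * c⁻¹ * c) * c := by group
        _ = z * c⁻¹ * (c * (z * c⁻¹)) * c := by rw [e2 c hc]
        _ = 1 := by rw [← z2]; group)
    by_cases e1 : z ∈ C1 a <;> by_cases e2 : z ∈ C1 b
    · exact key ⟨⟨hz, e1⟩, e2⟩
    · exact absurd (key (i2.mul_inv ⟨hz, e1⟩ ⟨aR, mem_C1.2 rfl⟩ (fun e => e2 e.2) fun e => a4 e.2))
        (fin a aR aa)
    · exact absurd (key ⟨i1.mul_inv hz bR (fun e => e1 e.2) fun e => b1 e.2,
        (C1 b).mul_mem e2 ((C1 b).inv_mem (mem_C1.2 rfl))⟩) (fin b bR bb)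
    · refine absurd (key ?_) (fin _ (mul_mem aR bR) abab)
      rw [mul_inv_rev, ← mul_assoc]
      exact i2.mul_inv (i1.mul_inv hz bR (fun e => e1 e.2) fun e => b1 e.2) ⟨aR, mem_C1.2 rfl⟩
        (fun e => e2 (((C1 b).mul_mem_cancel_right (inv_mem (mem_C1.2 rfl))).1 e.2))
        fun e => a4 e.2
  · have := i1.card_le
    have := i2.card_le
    have := Subgroup.card_le_of_le key
    rw [card_zp h.t2 h.t1] at this
    omega

end Loc

end Cfsg.Lib.SC6
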