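import Cfsg.Agent.Ord6.Tri

/-! The case in which an element of order three normalises a Sylow 2-subgroup of `C(t)`. -/

set_option autoImplicit false

namespace Cfsg.Lib.SC6

open Subgroup Cfsg.Lib.Trans
open Cfsg.Lib.Odd3 (conj_mem_of_norm conj_mem_of_norm' mem_norm_of_conj)
open Cfsg.Lib.L3 (sq_cases cube_cases SZ)

variable {G : Type*} [Group G] [Finite G]

omit [Finite G] in
theorem eq_one_of_zp {t u x : G} (u2 : u * u = 1) (h : u ∉ zpowers t) (h1 : x ∈ zpowers t)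
    (h2 : x ∈ zpowers u) : x = 1 :=
  (sq_cases u2 h2).resolve_right fun e => h (e ▸ h1)

omit [Finite G] in
theorem conj_zp {t g x : G} (h : x ∈ zpowers t) : g * x * g⁻¹ ∈ zpowers (g * t * g⁻¹) := by
  rw [← cj_zpowers]; exact mem_cj.2 (by simpa [mul_assoc] using h)

theorem mem_syl {t : G} (t2 : t * t = 1) {T : Subgroup G} (hT : IsSylowIn 2 T (C1 t)) : t ∈ T :=
  have := Fact.mk Nat.prime_two
  hT.le_of_normal (pg_zp t2) (zpowers_le.2 (mem_C1.2 rfl)) (fun _ ha => nm_zp (mem_C1.1 ha))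
    (mem_zpowers t)

namespace H6
variable {t y : G} (h : H6 t y)
include h

theorem fusion {T : Subgroup G} (hT : IsSylowIn 2 T (C1 t)) {v : G} (hv : v ∈ om T) (v1 : v ≠ 1) :
    ∃ k ∈ Nm T, k * t * k⁻¹ = v := by
  have := Fact.mk Nat.prime_two
  obtain ⟨g, rfl⟩ := h.conj v hv.2.1 v1
  have h1 := h.syl_top h.t2 h.t1 hT
  obtain ⟨c, c1, c2⟩ := (h1.mono (K := C1 (g * t * g⁻¹)) (fun a ha => mem_C1.2 (hv.2.2 a ha))
    le_top).exists_cj_eq ((h1.cj_of_mem (mem_top g)).mono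
      (cj_le_iff.2 fun a ha => mem_C1.2 (conj_comm (mem_C1.1 (hT.le ha)))) le_top)
  refine ⟨c * g, cj_eq_self_iff.1 (by rw [cj_mul, c2]), ?_⟩
  calc _ = c * (g * t * g⁻¹) * c⁻¹ := by group
    _ = _ := conj_eq_of_comm (mem_C1.1 c1)

theorem swap {T : Subgroup G} (hT : IsSylowIn 2 T (C1 t)) (zc : om T ≤ zpowers t) {d : G}
    (dT : d ∈ T) (d2 : d * d = 1) (dt : d ∉ zpowers t) (i2 : I2 (T ⊓ C1 d) T)
    (hV : om (T ⊓ C1 d) ≤ VV t d) :
    ∃ g ∈ Nm (T ⊓ C1 d), g * d = d * g ∧ g * t * g⁻¹ = t * d := by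
  have := Fact.mk Nat.prime_two
  have d1 : d ≠ 1 := fun e => dt (e ▸ one_mem _)
  have td := mem_C1.1 (hT.le dT)
  obtain ⟨S, s1, s2⟩ := exists_isSylowIn_ge (H := C1 d) hT.isPGroup.to_inf_left inf_le_right
  have h1 := h.syl_top h.t2 h.t1 hT
  have h2 := h.syl_top d2 d1 s1
  have i3 : I2 (T ⊓ C1 d) S := I2.of_card s2 (h2.card_eq_card h1 ▸ i2.card_le)
  obtain ⟨c, -, c2⟩ := h1.exists_cj_eq h2
  have tI : t ∈ T ⊓ C1 d := ⟨mem_syl h.t2 hT, mem_C1.2 td.symm⟩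
  have key : ∀ z ∈ S, z * z = 1 → z ≠ 1 → S ≤ C1 z → c * z * c⁻¹ = t := fun z z1 z2 z3 z4 =>
    (sq_cases h.t2 (zc ⟨cj_le_iff.1 c2.le z z1, conj_sq z2, fun a ha => by
      simpa [mul_assoc] using conj_comm (g := c) (mem_C1.1 (z4 (mem_cj.1 (c2.ge ha))))⟩)).resolve_left
      (conj_ne_one z3)
  obtain ⟨g, g1, g2⟩ : ∃ g ∈ S, g ∉ C1 t := by
    by_contra! e
    have := (key t (s2 tI) h.t2 h.t1 e).trans (key d (s2 ⟨dT, mem_C1.2 rfl⟩) d2 d1 s1.le).symm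
    exact dt (by rw [← (mul_left_cancel (mul_right_cancel this) : t = d)]; exact mem_zpowers t)
  have g3 := mem_C1.1 (s1.le g1)
  refine ⟨g, i3.nm g1, g3, ?_⟩
  rcases V_cases td h.t2 d2 (hV (conj_mem_om (i3.nm g1)
    ⟨tI, h.t2, fun a ha => mem_C1.1 (hT.le ha.1)⟩)) with e | e | e | e
  · exact absurd e (conj_ne_one h.t1)
  · exact absurd (mem_C1.2 (mul_inv_eq_iff_eq_mul.1 e)) g2
  · rw [← conj_eq_of_comm g3] at e
    exact absurd (by rw [← (mul_left_cancel (mul_right_cancel e) : t = d)]; exact mem_zpowers t) dt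
  · exact e

theorem one_b {T : Subgroup G} (hT : IsSylowIn 2 T (C1 t)) {d : G} (c : Cf t y d T) : False := by
  obtain ⟨g, g1, g2, g3⟩ := h.swap hT c.zc c.dR c.d2 c.dt c.i2R c.l3
  have td2 : t * d * (t * d) = 1 := (c.V_om (mul_mem (tV t d) (dV t d))).2.1
  have tdt : t * d ∉ zpowers t := fun e => c.dt ((mul_mem_cancel_left (mem_zpowers t)).1 e)
  have eI : y * d * y⁻¹ ∈ T ⊓ C1 d := (c.UI (eU t y d)).1
  have aI := conj_mem_of_norm g1 eI
  have e2 := conj_sq (g := g) c.conj.d2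
  have key : ∀ i : G, i * (g * (y * d * y⁻¹) * g⁻¹) * i⁻¹ * (g * (y * d * y⁻¹) * g⁻¹)⁻¹ =
      g * (g⁻¹ * i * g * (y * d * y⁻¹) * (g⁻¹ * i * g)⁻¹ * (y * d * y⁻¹)⁻¹) * g⁻¹ :=
    fun i => by group
  generalize g * (y * d * y⁻¹) * g⁻¹ = a at aI e2 key
  have a1 : ∀ i ∈ T ⊓ C1 d, i * a * i⁻¹ * a⁻¹ ∈ zpowers (t * d) := fun i hi => by
    rw [key, ← g3]; exact conj_zp (c.conj.dc _ (conj_mem_of_norm' g1 hi).1)
  have a2 : a ∈ UU t y d := c.k1 ⟨⟨aI, mem_C1.2 (eq_of_comm_one (eq_one_of_zp td2 tdt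
    (c.conj.dc a aI.1) (comm_symm (a1 _ eI))))⟩, e2, fun i hi => eq_of_comm_one
      (eq_one_of_zp td2 tdt (c.li aI.1 (fun r hr => zpowers_le.2 (mul_mem (tV t d) (dV t d))
        (a1 r hr.1)) i hi) (a1 i hi.1))⟩
  obtain ⟨r, r1, r2⟩ := c.exI
  have r3 := conj_mem_of_norm g1 r1
  have := eq_one_of_zp td2 tdt (c.Uc a2 r3.1) (a1 _ r3)
  rw [key, show g⁻¹ * (g * r * g⁻¹) * g = r by group] at this
  exact r2 ⟨r1, mem_C1.2 (eq_of_comm_one (by
    by_contra e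
    exact conj_ne_one e this))⟩

theorem one_a {T : Subgroup G} (hT : IsSylowIn 2 T (C1 t)) (hy : y ∈ Nm T) {z : G} (hz : z ∈ om T)
    (z1 : z ∉ zpowers t) : ∀ a ∈ T, ∀ b ∈ T, a * b = b * a := by
  have := Fact.mk Nat.prime_two
  by_contra! hc
  obtain ⟨a, ha, b, hb, hc⟩ := hc
  have tT := mem_syl h.t2 hT
  have tZ : t ∈ om T := ⟨tT, h.t2, fun a ha => mem_C1.1 (hT.le ha)⟩
  have nZ : T ≤ Nm (T ⊓ centralizer (T : Set G)) := fun g hg => mem_norm_of_conj fun x hx => by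
    rwa [conj_eq_of_comm (mem_centralizer_iff.1 hx.2 g hg)]
  obtain ⟨x, x1, x2, -, x3, x4⟩ := Solv.PG.exists_step_elt (p := 2) hT.isPGroup hT.isPGroup nZ
    le_normalizer (lt_of_le_not_ge inf_le_left fun e => hc (mem_centralizer_iff.1 (e hb).2 a ha))
  obtain ⟨c, c1, c2⟩ : ∃ c ∈ T, c * x ≠ x * c := by
    by_contra! e
    exact x2 ⟨x1, mem_centralizer_iff.2 e⟩
  have v1 : x * c * x⁻¹ * c⁻¹ ∈ T ⊓ centralizer (T : Set G) := x4 c (mem_sup_left c1)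
  have v2 := mem_centralizer_iff.1 v1.2
  obtain ⟨k, k1, k2⟩ := h.fusion hT (v := x * c * x⁻¹ * c⁻¹) ⟨v1.1, by
    calc _ = x * (x * c * x⁻¹ * c⁻¹) * c * x⁻¹ * c⁻¹ := by rw [v2 x x1]; group
      _ = x ^ 2 * c * (x ^ 2)⁻¹ * c⁻¹ := by rw [sq]; group
      _ = 1 := by rw [← mem_centralizer_iff.1 x3.2 c c1]; group, v2⟩
    fun e => c2 (eq_of_comm_one e).symm
  have hT' := h.syl_top h.t2 h.t1 hT
  have e : SZ (Nm T) (om T) y := ⟨hy, fun e => h.y1 (eq_one_of_mem_two hT.isPGroup e.1 h.y3),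
    h.y3 ▸ one_mem _, fun g hg e => by
      obtain ⟨u, u1, u2⟩ := fix_coset (n := 1) (by rw [pow_one, h.y3])
        (hT.isPGroup.to_le (om_le T)) ⟨nm_om T hy, comm_symm e⟩
      have u3 : u ∈ Nm T := (mul_mem_cancel_right (inv_mem hg)).1 (nm_self u1.1)
      have u4 : t = u * t * u⁻¹ := h.two (n := 1) hT.isPGroup h.y1 (by rw [pow_one, h.y3]) tT
        (conj_mem_of_norm u3 tT) h.yt (by
          have := conj_comm (g := u) h.yt
          rwa [conj_eq_of_comm u2.symm] at this) h.t1 (conj_ne_one h.t1)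
      have u5 : ∀ w, u * w ∈ zpowers t → g * w ∈ om T := fun w hw => by
        have := mul_mem (conj_mem_om (inv_mem hg) (inv_mem u1)) (conj_mem_om (inv_mem u3)
          (zpowers_le.2 tZ hw))
        have := conj_mem_om u3 (mul_mem (conj_mem_om (inv_mem u3) (inv_mem u1))
          (conj_mem_om (inv_mem u3) (zpowers_le.2 tZ hw)))
        convert this using 1; group
      rcases h.cent u (mul_inv_eq_iff_eq_mul.1 u4.symm) u2.symm with e | e | e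
      · exact Or.inl (by simpa using u5 1 (by simpa using e))
      · exact Or.inr (Or.inl (u5 _ e))
      · exact Or.inr (Or.inr (u5 _ e))⟩
  have := sz_gen (H := C1 t) e (nm_om T) (hT'.mono le_normalizer le_top) (om_le T) le_rfl
    (mem_C1.2 h.yt) hT.le fun g hg e => by
      obtain ⟨-, -, p1⟩ := e _ (conj_mem_of_norm' k1 x1)
      obtain ⟨-, -, p2⟩ := e _ (conj_mem_of_norm' k1 c1)
      have p3 : t = k⁻¹ * x * k * (k⁻¹ * c * k) * (k⁻¹ * x * k)⁻¹ * (k⁻¹ * c * k)⁻¹ := by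
        calc t = k⁻¹ * (k * t * k⁻¹) * k := by group
          _ = _ := by rw [k2]; group
      have p4 := conj_mem_of_norm' k1 x1
      have p5 := conj_mem_of_norm' k1 c1
      generalize k⁻¹ * x * k = p at p1 p3 p4
      generalize k⁻¹ * c * k = q at p2 p3 p5
      refine mem_C1.2 (mul_inv_eq_iff_eq_mul.1 ?_)
      have q1 := p1 _ (mul_mem (mul_mem p4 (conj_mem_of_norm hg p5)) (inv_mem p4))
      have q2 := p2 _ (mul_mem (mul_mem (mul_mem p4 p5) (inv_mem p4)) (inv_mem p5))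
      have q3 := p2 p p4
      generalize hu : g * p * g⁻¹ * p⁻¹ = u at q1
      generalize hv : g * q * g⁻¹ * q⁻¹ = v at q2 q3
      calc g * t * g⁻¹ = u * (p * (g * q * g⁻¹) * p⁻¹) * u⁻¹ * (g * q * g⁻¹)⁻¹ := by
            rw [p3, ← hu]; group
        _ = p * v * q * p⁻¹ * q⁻¹ * v⁻¹ := by rw [← q1, ← hv]; group
        _ = v * (p * q * p⁻¹ * q⁻¹) * v⁻¹ := by rw [q3]; group
        _ = t := by rw [← q2, p3]; group
  obtain ⟨k, k1, rfl⟩ := h.fusion hT hz fun e => z1 (e ▸ one_mem _)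
  exact z1 (by rw [conj_eq_of_comm (mem_C1.1 (this k1))]; exact mem_zpowers t)

theorem one [IsSimpleGroup G] (hG : ¬ IsMulCommutative G) {T : Subgroup G}
    (hT : IsSylowIn 2 T (C1 t)) (hy : y ∈ Nm T) : ∀ a ∈ T, ∀ b ∈ T, a * b = b * a := by
  have hl := h.loc hT.isPGroup (mem_syl h.t2 hT) hT.le hy
  by_cases zc : om T ≤ zpowers t
  · exfalso
    by_cases hd : ∀ d ∈ T, d * d = 1 → (∀ a ∈ T, a * d * a⁻¹ * d⁻¹ ∈ zpowers t) → d ∈ zpowers t
    · obtain ⟨z, z1, z2, z3⟩ := h.zstar hG (h.syl_top h.t2 h.t1 hT) hl.tR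
      exact z3 ((hl.q8 hd).1 z z1 z2)
    · push Not at hd
      obtain ⟨d, d1, d2, d3, d4⟩ := hd
      exact h.one_b hT ⟨hl, zc, d1, d2, d4, d3⟩
  · obtain ⟨z, z1, z2⟩ := SetLike.not_le_iff_exists.1 zc
    exact h.one_a hT hy z1 z2

end H6

end Cfsg.Lib.SC6
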