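import Cfsg.Agent.Ord6.One

/-! The case `C(t) / N ≅ S₃`: the centre of `O₂(C(t))`. -/

set_option autoImplicit false

namespace Cfsg.Lib.SC6

open Subgroup Cfsg.Lib.Trans
open Cfsg.Lib.Odd3 (conj_mem_of_norm conj_mem_of_norm' mem_norm_of_conj)
open Cfsg.Lib.L3 (sq_cases cube_cases SZ)

variable {G : Type*} [Group G] [Finite G]

omit [Finite G] in
theorem I2.mul_iff {H K : Subgroup G} (h : I2 H K) {a b : G} (ha : a ∈ K) (hb : b ∈ K) :
    a * b ∈ H ↔ (a ∈ H ↔ b ∈ H) := by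
  by_cases e : a ∈ H
  · rw [H.mul_mem_cancel_left e]; simp [e]
  · by_cases f : b ∈ H
    · rw [H.mul_mem_cancel_right f]; simp [f]
    · simp [e, f, h.mul a ha b hb e f]

omit [Finite G] in
theorem I2.cj {H K : Subgroup G} (h : I2 H K) (g : G) : I2 (cj g H) (cj g K) :=
  ⟨cj_mono g h.le, fun a ha b hb h1 h2 => mem_cj.2 (by
    have := h.mul _ (mem_cj.1 ha) _ (mem_cj.1 hb) (fun e => h1 (mem_cj.2 e)) fun e => h2 (mem_cj.2 e)
    convert this using 1; group)⟩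

theorem three_dvd {g : G} {H : Subgroup G} (h1 : g ^ 3 ∈ H) (h2 : g ∉ H) : 3 ∣ orderOf g := by
  by_contra e
  exact h2 (zpowers_le.2 h1 (mem_zpowers_pow_iff.2
    ((Nat.Prime.coprime_iff_not_dvd Nat.prime_three).2 e)))

theorem Cf.of_mem {t y d u : G} {R : Subgroup G} (h : Cf t y d R) (hu : u ∈ UU t y d)
    (u1 : u ∉ zpowers t) : Cf t y u R :=
  ⟨h.toLoc, h.zc, h.UR hu, (h.U_om hu).2.1, u1, fun _ ha => h.Uc hu ha⟩

theorem Cf.cj {t y d g : G} {R : Subgroup G} (h : Cf t y d R) (h1 : g ∈ Nm R)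
    (h2 : g * t = t * g) : Cf t y (g * d * g⁻¹) R :=
  ⟨h.toLoc, h.zc, conj_mem_of_norm h1 h.dR, conj_sq h.d2,
    fun c => h.dt (by simpa [mul_assoc] using conj_mem_of_norm' (nm_zp h2) c), fun a ha => by
      have := conj_mem_of_norm (nm_zp h2) (h.dc _ (conj_mem_of_norm' h1 ha))
      convert this using 1; group⟩

namespace C2
variable {t y s : G} {Q T : Subgroup G} (h : C2 t y s Q T)
include h

omit [Finite G] in
theorem pg : IsPGroup 2 Q := h.syl.isPGroup.to_le h.i2.le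

omit [Finite G] in
theorem cT {a : G} (ha : a ∈ T) : a * t = t * a := mem_C1.1 (h.syl.le ha)

theorem loc : Loc t y Q :=
  h.h6.loc h.pg h.tQ (h.i2.le.trans h.syl.le) (h.nQ (mem_C1.2 h.h6.yt))

theorem dd {D : Subgroup G} (tD : t ∈ D) (DQ : D ≤ Q) (nT : T ≤ Nm D) (yD : y ∈ Nm D) {g a : G}
    (gT : g ∈ T) (gQ : g ∉ Q) (ha : a ∈ Q) (e1 : g * a * g⁻¹ * a⁻¹ ∈ D)
    (e2 : g * (y * a * y⁻¹) * g⁻¹ * (y * a * y⁻¹)⁻¹ ∈ D) : a ∈ D := by
  have hf := h.loc.fp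
  have nQ := h.i2.le.trans nT
  have a2 : y⁻¹ * a * y ∈ cm D g := (mul_mem_cancel_left ((cm D g).mul_mem
    ⟨nQ ha, comm_symm e1⟩ ⟨nQ (hf.conj ha), comm_symm e2⟩)).1 (by
      have n := zpowers_le.2 tD (hf.norm ha)
      refine ⟨nm_self n, ?_⟩
      have := mul_mem n (conj_mem_of_norm (nT gT) (inv_mem n))
      convert this using 1; group)
  have c1 : y * g * y⁻¹ ∈ cm D a := ⟨mul_mem (mul_mem yD (nT gT)) (inv_mem yD), by
    have := conj_mem_of_norm yD (comm_symm a2.2)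
    convert this using 1; group⟩
  have q1 := h.i2.mul_inv gT h.sT gQ h.sQ
  have q2 := mul_mem q1 (hf.conj' (inv_mem q1))
  have e : g * (y * g * y⁻¹)⁻¹ = g * s⁻¹ * (y⁻¹ * (g * s⁻¹)⁻¹ * y) * y := by
    calc _ = g * s⁻¹ * (s * y * s⁻¹) * (g * s⁻¹)⁻¹ * y * (y ^ 3)⁻¹ * y := by rw [pow_three']; group
      _ = _ := by rw [h.sy, hf.y3]; group
  refine h.h6.kc (V := ⊥) h.pg DQ bot_le (g := g * (y * g * y⁻¹)⁻¹) (three_dvd (H := Q) ?_ ?_) ha tD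
    h.h6.t1 (mul_mem ⟨nT gT, e1⟩ (inv_mem c1)) ?_
  · rw [e]
    generalize g * s⁻¹ * (y⁻¹ * (g * s⁻¹)⁻¹ * y) = q at q2
    have := hf.le (hf.norm q2)
    rw [← yy hf.y3, ← mul_one (_ * _), ← hf.y3] at this
    convert this using 1
    rw [pow_three', pow_three']; group
  · rw [e]
    exact fun c => h.h6.y1 (eq_one_of_mem_two h.pg ((mul_mem_cancel_left q2).1 c) hf.y3)
  · rw [cm_bot]
    have := mem_C1.2 h.h6.yt
    exact mul_mem (h.syl.le gT) (inv_mem (mul_mem (mul_mem this (h.syl.le gT)) (inv_mem this)))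

theorem act {b g : G} (hb : b ∈ om Q) (gT : g ∈ T) (gQ : g ∉ Q) : g * b * g⁻¹ = s * b * s⁻¹ := by
  have := conj_eq_of_comm ((conj_mem_om (h.i2.nm h.sT) hb).2.2 _ (h.i2.mul_inv gT h.sT gQ h.sQ))
  rw [← this]; group

theorem nt {b g : G} (hb : b ∈ om Q) (gT : g ∈ T) : g * b * g⁻¹ * b⁻¹ ≠ t := fun e => by
  have hf := h.loc.fp
  by_cases gQ : g ∈ Q
  · exact h.h6.t1 (by rw [← e, hb.2.2 g gQ]; group)
  rw [h.act hb gT gQ, mul_inv_eq_iff_eq_mul] at e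
  have n := hf.norm hb.1
  have n1 := conj_eq_of_comm (mem_C1.1 ((zpowers_le.2 (mem_C1.2 (h.cT h.sT).symm) : _ ≤ C1 s) n)).symm
  have y1 : s * y⁻¹ * s⁻¹ = y := by rw [← conj_inv, h.sy, inv_inv]
  have b1 := conj_mem_om hf.yR hb
  have b2 := b1.2.2 _ (hf.conj' hb.1)
  have t1 := h.loc.cen b hb.1
  have t2 := h.loc.cen _ (hf.conj' hb.1)
  have e1 : s * (y * b * y⁻¹) * s⁻¹ = t * (y⁻¹ * b * y) := by
    calc _ = s * y * s⁻¹ * (s * b * s⁻¹) * (s * y⁻¹ * s⁻¹) := by group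
      _ = y⁻¹ * t * b * y := by rw [h.sy, y1, e]; group
      _ = _ := by rw [h.h6.inv.yt]; group
  have e2 : s * (y⁻¹ * b * y) * s⁻¹ = t * (y * b * y⁻¹) := by
    calc _ = s * y⁻¹ * s⁻¹ * (s * b * s⁻¹) * (s * y * s⁻¹) := by group
      _ = y * t * b * y⁻¹ := by rw [h.sy, y1, e]; group
      _ = _ := by rw [h.h6.yt]; group
  generalize y * b * y⁻¹ = p at *
  generalize y⁻¹ * b * y = q at *
  refine h.h6.t1 (mul_right_cancel (b := b * p * q) ?_)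
  calc t * (b * p * q) = t * b * (t * t) * (q * p) := by rw [h.h6.t2, b2]; group
    _ = t * b * t * (t * q) * p := by group
    _ = t * b * (t * q) * (t * p) := by rw [← t2, ← mul_assoc, mul_assoc _ t q, mul_assoc _ t p, t2]
    _ = s * (b * p * q) * s⁻¹ := by rw [← e, ← e1, ← e2]; group
    _ = _ := by rw [n1, one_mul]

theorem omQ : om Q ≤ zpowers t := fun b0 hb0 => by
  by_contra c0
  have hf := h.loc.fp
  have nT : T ≤ Nm (zpowers t) := fun a ha => nm_zp (h.cT ha)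
  obtain ⟨b, hb, z1⟩ : ∃ b ∈ om Q, s * b * s⁻¹ * b⁻¹ ∉ zpowers t := by
    by_contra! e
    exact c0 (h.dd (mem_zpowers t) hf.le nT hf.yD h.sT h.sQ hb0.1 (e _ hb0)
      (e _ (conj_mem_om hf.yR hb0)))
  have b1 := conj_mem_om (h.i2.nm h.sT) hb
  have zQ := mul_mem b1 (inv_mem hb)
  have zT : s * b * s⁻¹ * b⁻¹ ∈ om T := ⟨h.i2.le zQ.1, zQ.2.1, fun a ha => mem_C1.1
    (h.i2.le_of (L := C1 _) h.sT h.sQ (fun a ha => mem_C1.2 (zQ.2.2 a ha)) (mem_C1.2 (by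
      refine mul_inv_eq_iff_eq_mul.1 ?_
      calc _ = s * s * b * (s * s)⁻¹ * (s * b * s⁻¹)⁻¹ := by group
        _ = _ := by
          rw [conj_eq_of_comm (hb.2.2 _ (h.i2.sq h.sT)), inv_eq_of_mul_eq_one_right b1.2.1,
            inv_eq_of_mul_eq_one_right hb.2.1, hb.2.2 _ b1.1])) ha)⟩
  have z2 : s * b * s⁻¹ * b⁻¹ ≠ 1 := fun e => z1 (e ▸ one_mem _)
  obtain ⟨k, k1, k2⟩ := h.h6.fusion h.syl zT z2
  have k3 : ∀ g ∈ T, k⁻¹ * g * k ∉ Q → g * (k * b * k⁻¹) * g⁻¹ * (k * b * k⁻¹)⁻¹ =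
      k * (s * b * s⁻¹ * b⁻¹) * k⁻¹ := fun g hg e => by
    rw [← h.act hb (conj_mem_of_norm' k1 hg) e]; group
  have k4 : ∀ g, k⁻¹ * g * k ∈ Q → g * (k * b * k⁻¹) = k * b * k⁻¹ * g := fun g e => by
    simpa [mul_assoc] using conj_comm (g := k) (hb.2.2 _ e)
  have b2 := conj_mem_of_norm k1 (h.i2.le hb.1)
  by_cases c : k * b * k⁻¹ ∈ Q
  · have i1 := h.i2.cj k
    rw [cj_eq_of_mem_normalizer k1] at i1
    have i2 := hf.idx c (i1.inf h.i2.le) fun a ha => comm_mem_of_eq (k4 a (mem_cj.1 ha.2))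
    by_cases c1 : ∀ q ∈ Q, k⁻¹ * q * k ∈ Q
    · have k5 : k⁻¹ ∈ Nm Q := mem_norm_of_conj fun q hq => by simpa using c1 q hq
      refine h.nt (conj_mem_om k5 hb) (conj_mem_of_norm (inv_mem k1) h.sT) ?_
      calc _ = k⁻¹ * (s * b * s⁻¹ * b⁻¹) * k := by group
        _ = t := by rw [← k2]; group
    · push Not at c1
      obtain ⟨q, q1, q2⟩ := c1
      have i3 := i2 q q1
      rw [k3 q (h.i2.le q1) q2] at i3
      obtain ⟨m, n, e⟩ := odd_pow k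
      have i4 := conj_odd_pow k2 ((sq_cases h.h6.t2 i3).resolve_left (conj_ne_one z2)) m
      rw [conj_eq_of_comm (h.cT (mem_of_nm (h.h6.syl_top h.h6.t2 h.h6.t1 h.syl) (pow_mem k1 _) e))]
        at i4
      exact z1 (i4 ▸ mem_zpowers t)
  · have e1 := h.act hb b2 c
    by_cases c1 : k⁻¹ * b * k ∈ Q
    · exact z2 (by rw [← e1, ← k4 b c1]; group)
    · have e2 := k3 b (h.i2.le hb.1) c1
      have e3 : k * (s * b * s⁻¹ * b⁻¹) * k⁻¹ = k * t * k⁻¹ := by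
        rw [← e2, k2, ← inv_eq_of_mul_eq_one_right zQ.2.1, ← e1]; group
      exact z1 ((mul_left_cancel (mul_right_cancel e3) :) ▸ mem_zpowers t)

theorem exists_d {x : G} (c : Cf t y x Q) :
    ∃ d, Cf t y d Q ∧ ∀ a ∈ T, a * d * a⁻¹ * d⁻¹ ∈ zpowers t := by
  have sN := h.i2.nm h.sT
  have sc := h.cT h.sT
  have ss : ∀ {u}, Cf t y u Q → s * (s * u * s⁻¹) * s⁻¹ * u⁻¹ ∈ zpowers t := fun {u} cu => by
    have := cu.dc _ (h.i2.sq h.sT)
    convert this using 1; group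
  obtain ⟨u, cu, e⟩ : ∃ u, Cf t y u Q ∧ u ∈ C1 (s * u * s⁻¹) := by
    have c1 := c.conj
    have c2 := c.of_mem (mul_mem (VU t y x (dV t x)) (eU t y x)) fun e =>
      c.eV ((mul_mem_cancel_left (dV t x)).1 (zpV t x e))
    have key : ∀ {u a b}, Cf t y u Q → a ∈ Q → b ∈ Q →
        (a * b ∈ C1 u ↔ (a ∈ C1 u ↔ b ∈ C1 u)) := fun {u a b} cu ha hb => by
      simpa [ha, hb, mul_mem ha hb] using cu.i2R.mul_iff ha hb
    have sy : ∀ {a b : G}, a ∈ C1 b ↔ b ∈ C1 a := fun {a b} => by rw [mem_C1, mem_C1, eq_comm]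
    generalize y * x * y⁻¹ = e at c1 c2
    by_contra! f
    refine f _ c2 ?_
    have x' := c.cj sN sc
    have e' := c1.cj sN sc
    have p : x ∈ C1 (s * e * s⁻¹) ↔ e ∈ C1 (s * x * s⁻¹) := by
      rw [← (C1 _).mul_mem_cancel_left ((zpowers_le.2 (mem_C1.2 e'.td.symm) : _ ≤ C1 _) (ss c)),
        inv_mul_cancel_right, sy (a := e), mem_C1, mem_C1]
      exact ⟨fun a => by simpa [mul_assoc] using conj_comm (g := s⁻¹) a, conj_comm⟩
    rw [key (c2.cj sN sc) c.dR c1.dR, sy, sy (a := e),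
      show s * (x * e) * s⁻¹ = s * x * s⁻¹ * (s * e * s⁻¹) by group, key c x'.dR e'.dR,
      key c1 x'.dR e'.dR, sy, sy (a := s * e * s⁻¹), sy (b := e), sy (a := s * e * s⁻¹), p]
    have f1 := f _ c
    have f2 := f _ c1
    tauto
  have fin : ∀ d, Cf t y d Q → s * d * s⁻¹ * d⁻¹ ∈ zpowers t →
      ∃ d, Cf t y d Q ∧ ∀ a ∈ T, a * d * a⁻¹ * d⁻¹ ∈ zpowers t := fun d cd e =>
    ⟨d, cd, fun a ha => (h.i2.le_of (L := cm (zpowers t) d) h.sT h.sQ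
      (fun b hb => ⟨cd.fp.nD hb, cd.dc b hb⟩) ⟨nm_zp sc, e⟩ ha).2⟩
  by_cases e1 : s * u * s⁻¹ * u⁻¹ ∈ zpowers t
  · exact fin u cu e1
  have u' := cu.cj sN sc
  have e2 := mem_C1.1 e
  refine fin (s * u * s⁻¹ * u⁻¹) ⟨cu.toLoc, cu.zc, mul_mem u'.dR (inv_mem cu.dR), ?_, e1,
    fun a ha => comm_symm ((cm (zpowers t) a).mul_mem ⟨cu.fp.nD u'.dR, comm_symm (u'.dc a ha)⟩
      (inv_mem ⟨cu.fp.nD cu.dR, comm_symm (cu.dc a ha)⟩)).2⟩ ?_
  · rw [inv_eq_of_mul_eq_one_right cu.d2]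
    calc _ = s * u * s⁻¹ * (u * (s * u * s⁻¹)) * u := by group
      _ = 1 := by rw [e2, ← mul_assoc, u'.d2, one_mul, cu.d2]
  · have := ss cu
    convert this using 1
    calc _ = s * (s * u * s⁻¹) * s⁻¹ * (s * u * s⁻¹)⁻¹ * (u * (s * u * s⁻¹)) *
          (s * u * s⁻¹ * (s * u * s⁻¹))⁻¹ := by group
      _ = s * (s * u * s⁻¹) * s⁻¹ * u⁻¹ * (u * u) := by rw [e2, u'.d2]; group
      _ = _ := by rw [cu.d2, mul_one]

end C2

end Cfsg.Lib.SC6
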